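import Mathlib.GroupTheory.Index
import Mathlib.Tactic.Group
import Mathlib.Algebra.Group.Subgroup.Pointwise
import Mathlib.GroupTheory.Commutator.Basic

/-!
Averaging over an automorphism of order three in a group with central derived group.
-/

set_option autoImplicit false

namespace CfsgLib.ThreeTranspUnitary

open Subgroup
open scoped commutatorElement

variable {Γ : Type*} [Group Γ]

/-- Commutators in a closure fall in a normalised subgroup if those of the generators do. -/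
theorem commutator_mem_of_normalized {s : Set Γ} {N : Subgroup Γ} (hs : ∀ x ∈ s, x⁻¹ ∈ s)
    (hN : ∀ x ∈ s, ∀ n ∈ N, x * n * x⁻¹ ∈ N) (h : ∀ x ∈ s, ∀ y ∈ s, ⁅x, y⁆ ∈ N) {x y : Γ}
    (hx : x ∈ closure s) (hy : y ∈ closure s) : ⁅x, y⁆ ∈ N := by
  have hc : ∀ a ∈ closure s, ∀ n ∈ N, a * n * a⁻¹ ∈ N := by
    intro a ha
    induction ha using closure_induction'' with
    | mem a ha => exact hN a ha
    | inv_mem a ha => exact hN _ (hs a ha)
    | one => intro n hn; simpa using hn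
    | mul a b _ _ iha ihb =>
      intro n hn
      rw [show a * b * n * (a * b)⁻¹ = a * (b * n * b⁻¹) * a⁻¹ by group]
      exact iha _ (ihb n hn)
  have step : ∀ a ∈ s, ∀ b ∈ closure s, ⁅a, b⁆ ∈ N := by
    intro a ha b hb
    induction hb using closure_induction'' with
    | mem b hb => exact h a ha b hb
    | inv_mem b hb => exact h a ha _ (hs b hb)
    | one => simp
    | mul b b' hbs _ ihb ihb' =>
      rw [show ⁅a, b * b'⁆ = ⁅a, b⁆ * (b * ⁅a, b'⁆ * b⁻¹) by simp only [commutatorElement_def]; group]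
      exact mul_mem ihb (hc b hbs _ ihb')
  induction hx using closure_induction'' with
  | mem a ha => exact step a ha y hy
  | inv_mem a ha => exact step _ (hs a ha) y hy
  | one => simp
  | mul a a' has _ iha iha' =>
    rw [show ⁅a * a', y⁆ = a * ⁅a', y⁆ * a⁻¹ * ⁅a, y⁆ by simp only [commutatorElement_def]; group]
    exact mul_mem (hc a has _ iha') iha

variable (A D : Subgroup Γ) (w : Γ)

/-- The product of the three images of an element. -/
def avg (q : Γ) : Γ := q * (w * q * w⁻¹) * (w * (w * q * w⁻¹) * w⁻¹)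

variable {A D w} (hAD : ∀ a ∈ A, ∀ b ∈ A, ⁅a, b⁆ ∈ D) (hDA : ∀ d ∈ D, ∀ a ∈ A, Commute d a)
  (hwA : ∀ a ∈ A, w * a * w⁻¹ ∈ A)

include hwA in
theorem avg_mem {q : Γ} (hq : q ∈ A) : avg w q ∈ A :=
  mul_mem (mul_mem hq (hwA q hq)) (hwA _ (hwA q hq))

include hAD hDA hwA in
theorem avg_mul {q r : Γ} (hq : q ∈ A) (hr : r ∈ A) :
    ∃ d ∈ D, avg w (q * r) = d * (avg w q * avg w r) := by
  have swap : ∀ {a b c e : Γ}, a ∈ A → b ∈ A → c ∈ A →
      a * b * (c * e) = ⁅b, c⁆ * (a * c * (b * e)) := by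
    intro a b c e ha hb hc
    have h1 := hDA _ (hAD b hb c hc) a ha
    calc a * b * (c * e) = a * ⁅b, c⁆ * (c * (b * e)) := by simp only [commutatorElement_def]; group
      _ = ⁅b, c⁆ * a * (c * (b * e)) := by rw [h1.eq]
      _ = _ := by group
  have e1 : w * (q * r) * w⁻¹ = w * q * w⁻¹ * (w * r * w⁻¹) := by group
  have e2 : w * (w * q * w⁻¹ * (w * r * w⁻¹)) * w⁻¹ =
      w * (w * q * w⁻¹) * w⁻¹ * (w * (w * r * w⁻¹) * w⁻¹) := by group
  simp only [avg]
  rw [e1, e2, swap hq hr (hwA q hq)]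
  set q' := w * q * w⁻¹ with hq'
  set r' := w * r * w⁻¹ with hr'
  have hq'A : q' ∈ A := hwA q hq
  have hr'A : r' ∈ A := hwA r hr
  refine ⟨⁅r, q'⁆ * ⁅r * r', w * q' * w⁻¹⁆, mul_mem (hAD r hr _ hq'A)
    (hAD _ (mul_mem hr hr'A) _ (hwA _ hq'A)), ?_⟩
  rw [mul_assoc ⁅r, q'⁆ (q * q' * (r * r')), swap (mul_mem hq hq'A) (mul_mem hr hr'A) (hwA _ hq'A)]
  simp only [mul_assoc]

include hAD hDA hwA in
/-- The elements whose average is in `D`. -/
theorem exists_avgKer : ∃ M : Subgroup Γ, ∀ q, q ∈ M ↔ q ∈ A ∧ avg w q ∈ D := by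
  refine ⟨{ carrier := {q | q ∈ A ∧ avg w q ∈ D}, one_mem' := ⟨one_mem A, by simp [avg]⟩,
            mul_mem' := ?_, inv_mem' := ?_ }, fun q => Iff.rfl⟩
  · rintro q r ⟨hq, hq'⟩ ⟨hr, hr'⟩
    obtain ⟨d, hd, e⟩ := avg_mul hAD hDA hwA hq hr
    exact ⟨mul_mem hq hr, e ▸ mul_mem hd (mul_mem hq' hr')⟩
  · rintro q ⟨hq, hq'⟩
    refine ⟨inv_mem hq, ?_⟩
    obtain ⟨d, hd, e⟩ := avg_mul hAD hDA hwA hq (inv_mem hq)
    rw [mul_inv_cancel, show avg w 1 = 1 by simp [avg]] at e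
    rw [show avg w q⁻¹ = (d * avg w q)⁻¹ from eq_inv_of_mul_eq_one_right (by rw [mul_assoc, ← e])]
    exact inv_mem (mul_mem hd hq')

theorem avg_conj {s q : Γ} (h : Commute s w) : avg w (s * q * s⁻¹) = s * avg w q * s⁻¹ := by
  have h1 : ∀ a, w * (s * a * s⁻¹) * w⁻¹ = s * (w * a * w⁻¹) * s⁻¹ := fun a => by
    calc w * (s * a * s⁻¹) * w⁻¹ = w * s * a * (w * s)⁻¹ := by group
      _ = s * w * a * (s * w)⁻¹ := by rw [h.eq]
      _ = _ := by group
  simp only [avg, h1]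
  group

theorem avg_mul_central {z : Γ} (hz : z ∈ center Γ) (q : Γ) : avg w (q * z) = avg w q * z ^ 3 := by
  have h1 : ∀ a : Γ, w * (a * z) * w⁻¹ = w * a * w⁻¹ * z := fun a => by
    calc w * (a * z) * w⁻¹ = w * a * (z * w⁻¹) := by group
      _ = w * a * (w⁻¹ * z) := by rw [mem_center_iff.1 hz w⁻¹]
      _ = _ := by group
  have h2 : ∀ a b : Γ, a * z * b = a * b * z := fun a b => by
    rw [mul_assoc, mul_assoc, mem_center_iff.1 hz b]
  simp only [avg, h1]
  have key : ∀ a b c : Γ, a * z * (b * z) * (c * z) = a * b * c * (z * z * z) := fun a b c => by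
    calc a * z * (b * z) * (c * z) = a * b * z * z * (c * z) := by rw [h2 a (b * z)]; group
      _ = a * b * z * (c * z) * z := by rw [h2 (a * b * z) (c * z)]
      _ = a * b * (c * z) * z * z := by rw [h2 (a * b) (c * z)]
      _ = _ := by group
  rw [key, show z ^ 3 = z * z * z by simp [pow_succ]]

end CfsgLib.ThreeTranspUnitary
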