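import Cfsg.Agent.Lib.ThreeTranspUnitary.Kernel

/-!
Double covers of special unitary groups in an arbitrary universe.
-/

set_option autoImplicit false
set_option linter.style.haveILetI false

namespace CfsgLib.ThreeTranspUnitary

open CfsgLib.Classical.Herm CfsgLib.PSUCover

universe u w

theorem noDoubleCover_of_noExt {F : Type w} [Field F] {V : Type*} [AddCommGroup V] [Module F V]
    {H : HermSpace F V} (h : NoExt H 2) : NoDoubleCover.{u, _} (detHom H).ker := by
  intro P _ _ ρ hs hc hp hk
  obtain ⟨k, ⟨e⟩⟩ := Finite.exists_equiv_fin P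
  let e' : ULift.{w} {i : ℕ // i < k} ≃ P := Equiv.ulift.trans (Fin.equivSubtype.symm.trans e.symm)
  letI : Group (ULift.{w} {i : ℕ // i < k}) := e'.group
  let m : ULift.{w} {i : ℕ // i < k} ≃* P := e'.mulEquiv
  set f : ULift.{w} {i : ℕ // i < k} →* Unit' H := ((detHom H).ker.subtype.comp ρ).comp m.toMonoidHom with hf
  have hfa : ∀ x, f x = (ρ (m x) : Unit' H) := fun _ => rfl
  have hker : ∀ x, x ∈ f.ker ↔ m x ∈ ρ.ker := fun x => by
    rw [MonoidHom.mem_ker, MonoidHom.mem_ker, hfa, OneMemClass.coe_eq_one]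
  refine h _ f ⟨fun x hx => ?_, ?_, ?_, Nat.prime_two, ?_⟩
  · rw [Subgroup.mem_center_iff]
    intro y
    apply m.injective
    rw [map_mul, map_mul]
    exact Subgroup.mem_center_iff.1 (hc ((hker x).1 hx)) _
  · rw [hf, MonoidHom.range_eq_map, ← Subgroup.map_map, Subgroup.map_top_of_surjective _ m.surjective,
      ← Subgroup.map_map, Subgroup.map_top_of_surjective ρ hs, ← MonoidHom.range_eq_map,
      Subgroup.range_subtype]
  · rw [← hk]
    exact Nat.card_congr (Equiv.subtypeEquiv m.toEquiv hker)
  · refine Subgroup.map_injective (f := m.toMonoidHom) m.injective ?_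
    rw [_root_.commutator_def, Subgroup.map_commutator, Subgroup.map_top_of_surjective _ m.surjective,
      ← _root_.commutator_def, hp]

end CfsgLib.ThreeTranspUnitary
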