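import Cfsg.Agent.Lib.ThreeTranspUnitary.FiveTwoGeom
import Cfsg.Agent.Lib.ThreeTranspUnitary.Averaging

/-!
`SU(5, 2)` has no central extension with kernel of order two.
-/

set_option autoImplicit false
set_option linter.unusedSectionVars false
set_option linter.style.haveILetI false

namespace CfsgLib.ThreeTranspUnitary

open Module CfsgLib.Classical.Herm HermSpace CfsgLib.PSUCover Subgroup
open scoped commutatorElement Pointwise

universe u

variable {F : Type u} [Field F] [Fintype F] (hF : Fintype.card F = 2 ^ 2)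

include hF in
theorem exists_cube_root : ∃ w : normOne F 2, ((w : Fˣ) : F) ≠ 1 ∧
    1 + ((w : Fˣ) : F) + ((w : Fˣ) : F) * ((w : Fˣ) : F) = 0 := by
  obtain ⟨l, hl, hl1⟩ := (stdHerm hF 5).exists_norm_one_ne_one
  rw [stdHerm_conj] at hl
  have hl0 : l ≠ 0 := left_ne_zero_of_mul_eq_one hl
  refine ⟨⟨Units.mk0 l hl0, ?_⟩, hl1, ?_⟩
  · rw [MonoidHom.mem_ker, powMonoidHom_apply]
    apply Units.ext
    rw [Units.val_pow_eq_pow_val, Units.val_mk0, Units.val_one]
    linear_combination hl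
  · refine (mul_eq_zero.1 (show (l - 1) * (1 + l + l * l) = 0 from ?_)).resolve_left (sub_ne_zero.2 hl1)
    linear_combination hl

theorem diag_apply (c : Fin 5 → normOne F 2) (x : Fin 5 → F) (i : Fin 5) :
    (diagHom hF c).1 x i = ((c i : Fˣ) : F) * x i := rfl

theorem diag_apply_eq_smul (c : Fin 5 → normOne F 2) (x : Fin 5 → F) (k : normOne F 2)
    (h : ∀ i, x i = 0 ∨ c i = k) : (diagHom hF c).1 x = ((k : Fˣ) : F) • x := by
  funext i
  rw [diag_apply, Pi.smul_apply, smul_eq_mul]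
  rcases h i with h | h <;> simp [h]

theorem diag_fix (c : Fin 5 → normOne F 2) (x : Fin 5 → F) (h : ∀ i, x i = 0 ∨ c i = 1) :
    (diagHom hF c).1 x = x := by
  rw [diag_apply_eq_smul hF c x 1 h, OneMemClass.coe_one, Units.val_one, one_smul]

theorem diag_cube (c : Fin 5 → normOne F 2) : diagHom hF c ^ 3 = 1 := by
  rw [← map_pow, show c ^ 3 = 1 from funext fun i => by
    refine Subtype.ext ?_
    rw [Pi.pow_apply, SubmonoidClass.coe_pow]
    exact (MonoidHom.mem_ker).1 (c i).2, map_one]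

theorem root_zero_eq {a : Fin 5 → F} {l : F} (c : RootCond (stdHerm hF 5) pv a l) (ha : a = 0) :
    root _ pv a l c = 1 ∨ root _ pv a l c = tr pv (pv_iso hF) (two_zero hF) := by
  subst ha
  have c0 : RootCond (stdHerm hF 5) pv 0 0 :=
    ⟨pv_iso hF, HermSpace.zero_left _ _, by simp [HermSpace.zero_left, -stdHerm_h]⟩
  have e0 : root _ pv 0 0 c0 = 1 := unit_ext fun x => rootFun_zero pv x
  rcases root_eq_tr_or (two_zero hF) (hfix_five hF) c c0 with h | h
  · exact Or.inl (h.trans e0)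
  · exact Or.inr (h.trans (by rw [e0, one_mul]))

theorem root_triple {a : Fin 5 → F} {b : F} (hb : 1 + b + b * b = 0) {l l' l'' : F}
    (c : RootCond (stdHerm hF 5) pv a l) (c' : RootCond (stdHerm hF 5) pv (b • a) l')
    (c'' : RootCond (stdHerm hF 5) pv (b • b • a) l'') :
    root _ pv a l c * root _ pv _ l' c' * root _ pv _ l'' c'' = 1 ∨
      root _ pv a l c * root _ pv _ l' c' * root _ pv _ l'' c'' = tr pv (pv_iso hF) (two_zero hF) := by
  rw [root_mul, root_mul]
  refine root_zero_eq hF _ ?_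
  rw [smul_smul, show a + b • a + (b * b) • a = (1 + b + b * b) • a by module, hb, zero_smul]

variable {Γ : Type u} [Group Γ] [Finite Γ] {f : Γ →* Unit' (stdHerm hF 5)}

theorem exists_lift_of_SG (E : Ext f 2) {g : Unit' (stdHerm hF 5)} (hg : g ∈ SG (stdHerm hF 5)) :
    ∃ x, f x = g := by
  have : g ∈ f.range := E.range_eq ▸ hg
  exact this

theorem ker_sq (E : Ext f 2) {z : Γ} (hz : f z = 1) : z * z = 1 := by
  have := pow_card_eq_one' (x := (⟨z, hz⟩ : f.ker))
  rw [E.card_ker] at this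
  rw [← sq]
  exact congrArg Subtype.val this

theorem exists_third : ∀ i j : Fin 5, ∃ k : Fin 5, k ≠ 0 ∧ k ≠ 1 ∧ k ≠ i ∧ k ≠ j := by decide

/-- Lifts of different blocks commute. -/
theorem commute_blocks (E : Ext f 2) {i j : Fin 5} (hi0 : i ≠ 0) (hi1 : i ≠ 1) (hj0 : j ≠ 0)
    (hj1 : j ≠ 1) (hij : i ≠ j) {δ : Γ} (Q : QuatLift f pv (ev i) (pv_iso hF) (two_zero hF) δ)
    {x y : Γ} (hx : f x ∈ RP pv (pv_iso hF) (F ∙ ev i)) (hy : f y ∈ RP pv (pv_iso hF) (F ∙ ev j)) :
    Commute x y := by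
  obtain ⟨w, -, hw⟩ := exists_cube_root hF
  obtain ⟨k, hk0, hk1, hki, hkj⟩ := exists_third i j
  set c : Fin 5 → normOne F 2 := fun m => if m = j then w else if m = k then w * w else 1 with hc
  have hprod : ∏ m, c m = 1 := by
    rw [Finset.prod_eq_mul j k hkj.symm (fun m _ hm => by simp [hc, hm.1, hm.2])
      (by simp) (by simp)]
    simp only [hc, if_true, if_neg hkj]
    refine Subtype.ext (Units.ext ?_)
    push_cast
    linear_combination (((w : Fˣ) : F) - 1) * hw
  obtain ⟨τ, hτ⟩ := exists_lift_of_SG hF E (diagHom_mem_SG hF hprod)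
  have hcp : (diagHom hF c).1 pv = pv := diag_fix hF c _ fun m => by
    fin_cases m <;> simp [hc, hj0.symm, hj1.symm, hk0.symm, hk1.symm]
  have hcj : (diagHom hF c).1 (ev j) = ((w : Fˣ) : F) • ev j := diag_apply_eq_smul hF c _ w fun m => by
    by_cases hm : m = j
    · exact Or.inr (by simp [hc, hm])
    · exact Or.inl (by simp [hm])
  have hci : (diagHom hF c).1 (ev i) = ev i := diag_fix hF c _ fun m => by
    by_cases hm : m = i
    · exact Or.inr (by subst hm; simp [hc, hij, hki.symm])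
    · exact Or.inl (by simp [hm])
  obtain ⟨a, ha, l, ca, ea⟩ := hx
  obtain ⟨b, hb, m, cb, eb⟩ := hy
  obtain ⟨a0, rfl⟩ := Submodule.mem_span_singleton.1 ha
  obtain ⟨b0, rfl⟩ := Submodule.mem_span_singleton.1 hb
  have orth : ∀ (r s : F), (stdHerm hF 5).h (r • ev i) (s • ev j) = 0 := fun r s => by
    rw [HermSpace.smul_left, HermSpace.smul_right, h_ev_right]
    simp [hij.symm]
  have hcomm : Commute (f x) (f y) := by
    show f x * f y = f y * f x
    rw [ea, eb, root_mul, root_mul]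
    refine root_congr _ _ rfl (add_comm _ _) ?_
    rw [orth, HermSpace.h_comm_zero _ (orth a0 b0), add_comm]
  set y' := τ * y * τ⁻¹ with hy'
  set y'' := τ * y' * τ⁻¹ with hy''
  have eb' : ∃ m', ∃ c' : RootCond (stdHerm hF 5) pv (((w : Fˣ) : F) • b0 • ev j) m',
      f y' = root _ pv _ m' c' := by
    refine ⟨m, ?_, ?_⟩
    · have := cb.map (diagHom hF c)
      rwa [hcp, map_smul, hcj, smul_comm] at this
    · rw [hy', map_mul, map_mul, map_inv, hτ, eb, root_conj]
      exact root_congr _ _ hcp (by rw [map_smul, hcj, smul_comm]) rfl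
  obtain ⟨m', cb', eb'⟩ := eb'
  have eb'' : ∃ m'', ∃ c' : RootCond (stdHerm hF 5) pv
      (((w : Fˣ) : F) • ((w : Fˣ) : F) • b0 • ev j) m'', f y'' = root _ pv _ m'' c' := by
    have e : (diagHom hF c).1 (((w : Fˣ) : F) • b0 • ev j) =
        ((w : Fˣ) : F) • ((w : Fˣ) : F) • b0 • ev j := by
      rw [map_smul, map_smul, hcj, smul_comm b0]
    refine ⟨m', ?_, ?_⟩
    · have := cb'.map (diagHom hF c)
      rwa [hcp, e] at this
    · rw [hy'', map_mul, map_mul, map_inv, hτ, eb', root_conj]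
      exact root_congr _ _ hcp e rfl
  obtain ⟨m'', cb'', eb''⟩ := eb''
  have hc0 : ⁅x, y⁆ ∈ center Γ := comm_central E.central hcomm
  have hxτ : f (τ * x * τ⁻¹) = f x := by
    rw [map_mul, map_mul, map_inv, hτ, ea, root_conj]
    exact root_congr _ _ hcp (by rw [map_smul, hci]) rfl
  have step : ∀ z, ⁅x, z⁆ ∈ center Γ → ⁅x, τ * z * τ⁻¹⁆ = ⁅x, z⁆ := fun z hz => by
    rw [← comm_congr E.central hxτ (rfl : f (τ * z * τ⁻¹) = f (τ * z * τ⁻¹)), comm_conj_invariant hz]
  have e1 : ⁅x, y'⁆ = ⁅x, y⁆ := step y hc0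
  have e2 : ⁅x, y''⁆ = ⁅x, y⁆ := (step y' (e1 ▸ hc0)).trans e1
  have e3 : ⁅x, y * y' * y''⁆ = 1 := by
    have h : f (y * y' * y'') = 1 ∨ f (y * y' * y'') = f δ := by
      rw [map_mul, map_mul, eb, eb', eb'', Q.image]
      exact root_triple hF hw cb cb' cb''
    rcases h with h | h
    · rw [comm_congr E.central (rfl : f x = f x) (b' := 1) (h.trans (map_one f).symm),
        commutatorElement_one_right]
    · rw [comm_congr E.central (rfl : f x = f x) (b' := δ) h]
      exact commutatorElement_eq_one_iff_mul_comm.2 (Q.commute x (by rw [ea]; exact root_mem_RP ha ca)).eq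
  rw [comm_mul_right (e2 ▸ hc0), comm_mul_right (e1 ▸ hc0), e1, e2] at e3
  have hk : f ⁅x, y⁆ = 1 := by
    rw [map_commutatorElement, commutatorElement_eq_one_iff_mul_comm]; exact hcomm.eq
  rw [ker_sq hF E hk, one_mul] at e3
  exact commutatorElement_eq_one_iff_mul_comm.1 e3

/-- A three-cycle identifies the involutions of the blocks. -/
theorem delta_eq (E : Ext f 2) {i : Fin 5} {δ δ' : Γ}
    (Q : QuatLift f pv (ev i) (pv_iso hF) (two_zero hF) δ)
    (Q' : QuatLift f pv (ev ((Equiv.swap (2 : Fin 5) 3 * Equiv.swap 3 4).symm i)) (pv_iso hF)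
      (two_zero hF) δ') (hδ : δ ∉ f.ker) : δ = δ' := by
  set π : Equiv.Perm (Fin 5) := Equiv.swap (2 : Fin 5) 3 * Equiv.swap 3 4 with hπ
  set g := mono hF (1 : Fin 5 → normOne F 2) π with hg
  have hgSG : g ∈ SG (stdHerm hF 5) := by
    apply Units.ext
    rw [hg, detHom_mono, hπ, map_mul, Equiv.Perm.sign_swap (by decide), Equiv.Perm.sign_swap (by decide)]
    simp
  have hg3 : g ^ 3 = 1 := by
    rw [hg, pow_three, mono_mul, mono_mul,
      show π.trans (π.trans π) = 1 by rw [hπ]; decide]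
    exact unit_ext fun x => funext fun m => by simp [mono_apply]
  have hge : ∀ m : Fin 5, g.1 (ev m) = ev (π.symm m) := fun m => funext fun n => by
    rw [hg, mono_apply]
    simp [Pi.single_apply, Equiv.eq_symm_apply]
  have hgp : g.1 pv = pv := by
    have h0 : π.symm 0 = 0 := by rw [hπ]; decide
    have h1 : π.symm 1 = 1 := by rw [hπ]; decide
    rw [pv, map_add, hge, hge, h0, h1]
  obtain ⟨t, ht⟩ := exists_lift_of_SG hF E hgSG
  obtain ⟨x, y, hx, hy, e⟩ := Q.witness
  have hmap : ∀ z, f z ∈ RP pv (pv_iso hF) (F ∙ ev i) →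
      f (t * z * t⁻¹) ∈ RP pv (pv_iso hF) (F ∙ ev (π.symm i)) := by
    rintro z ⟨a, ha, l, ca, ea⟩
    obtain ⟨a0, rfl⟩ := Submodule.mem_span_singleton.1 ha
    have c' : RootCond (stdHerm hF 5) pv (a0 • ev (π.symm i)) l := by
      have := ca.map g
      rwa [hgp, map_smul, hge] at this
    rw [map_mul, map_mul, map_inv, ht, ea, root_conj,
      root_congr (ca.map g) c' hgp (by rw [map_smul, hge]) rfl]
    exact root_mem_RP (Submodule.smul_mem _ _ (Submodule.mem_span_singleton_self _)) c'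
  have hcm : Commute t δ := by
    refine commute_of_coprime E.central E.prime E.card_ker ?_ (by rw [ht, hg3]) (by norm_num)
    show f t * f δ = f δ * f t
    rw [← mul_inv_eq_iff_eq_mul, Q.image, ht, tr, root_conj]
    exact root_congr _ _ hgp (map_zero _) rfl
  have hmem : δ ∈ zpowers δ' := by
    have := Q'.comm _ _ (hmap x hx) (hmap y hy)
    rwa [← conjugate_commutatorElement, e, hcm.eq, mul_inv_cancel_right] at this
  rcases zpowers_cases Q'.sq hmem with h | h
  · exact absurd (h ▸ f.ker.one_mem) hδ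
  · exact h

include hF in
theorem split_twoGrp (E : Ext f 2) :
    ∀ z ∈ ⁅(twoGrp hF).comap f, (twoGrp hF).comap f⁆, f z = 1 → z = 1 := by
  have h2 := two_zero hF
  have hq : ∀ i : Fin 5, i ≠ 0 → i ≠ 1 →
      ∃ δ, QuatLift f pv (ev i) (pv_iso hF) h2 δ ∧ δ ∉ f.ker := fun i h0 h1 =>
    exists_quatLift h2 (hfix_five hF) E (pv_iso hF) (h_ev_self hF i)
      (h_wsub_pv hF ⟨by simp [h0.symm], by simp [h1.symm]⟩) (RP_le_SG hF _) pv_ne
  obtain ⟨d, Q2, hd⟩ := hq 2 (by decide) (by decide)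
  obtain ⟨d3, Q3, hd3⟩ := hq 3 (by decide) (by decide)
  obtain ⟨d4, Q4, hd4⟩ := hq 4 (by decide) (by decide)
  have p2 : (Equiv.swap (2 : Fin 5) 3 * Equiv.swap 3 4).symm 2 = 4 := by decide
  have p4 : (Equiv.swap (2 : Fin 5) 3 * Equiv.swap 3 4).symm 4 = 3 := by decide
  obtain rfl : d = d4 := delta_eq hF E Q2 (p2.symm ▸ Q4) hd
  obtain rfl : d = d3 := delta_eq hF E Q4 (p4.symm ▸ Q3) hd
  have hQ : ∀ i : Fin 5, i ≠ 0 → i ≠ 1 → QuatLift f pv (ev i) (pv_iso hF) h2 d := by
    intro i h0 h1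
    fin_cases i
    · exact absurd rfl h0
    · exact absurd rfl h1
    · exact Q2
    · exact Q3
    · exact Q4
  set A := (bigRP hF).comap f with hA
  set S := (smallRP hF).comap f with hS
  have hfd : f d = tr pv (pv_iso hF) h2 := Q2.image
  -- the blocks generate
  set s : Set Γ := {x | ∃ i : Fin 5, i ≠ 0 ∧ i ≠ 1 ∧ f x ∈ RP pv (pv_iso hF) (F ∙ ev i)} with hs
  have hAs : A ≤ closure s := by
    intro x hx
    obtain ⟨a, ha, l, ca, ea⟩ := hx
    have mk : ∀ i : Fin 5, i ≠ 0 → i ≠ 1 → ∃ y l', ∃ c : RootCond (stdHerm hF 5) pv (a i • ev i) l',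
        f y = root _ pv _ l' c := by
      intro i h0 h1
      obtain ⟨l', hl'⟩ := (stdHerm hF 5).exists_trace ((stdHerm hF 5).conj_diag (a i • ev i))
      have c : RootCond (stdHerm hF 5) pv (a i • ev i) l' := ⟨pv_iso hF,
        h_wsub_pv hF (Submodule.smul_mem _ _ ⟨by simp [h0.symm], by simp [h1.symm]⟩),
        by linear_combination hl' + (stdHerm hF 5).h (a i • ev i) (a i • ev i) * h2⟩
      obtain ⟨y, hy⟩ := exists_lift_of_SG hF E (detHom_root c : root _ pv _ l' c ∈ SG (stdHerm hF 5))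
      exact ⟨y, l', c, hy⟩
    obtain ⟨y2, l2, c2, e2⟩ := mk 2 (by decide) (by decide)
    obtain ⟨y3, l3, c3, e3⟩ := mk 3 (by decide) (by decide)
    have hblk : ∀ (y : Γ) (i : Fin 5), i ≠ 0 → i ≠ 1 →
        f y ∈ RP pv (pv_iso hF) (F ∙ ev i) → y ∈ closure s :=
      fun y i h0 h1 h => subset_closure ⟨i, h0, h1, h⟩
    rw [show x = y2 * y3 * ((y2 * y3)⁻¹ * x) by group]
    refine mul_mem (mul_mem (hblk y2 2 (by decide) (by decide) ?_) (hblk y3 3 (by decide) (by decide) ?_))
      (hblk _ 4 (by decide) (by decide) ?_)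
    · rw [e2]; exact root_mem_RP (Submodule.smul_mem _ _ (Submodule.mem_span_singleton_self _)) c2
    · rw [e3]; exact root_mem_RP (Submodule.smul_mem _ _ (Submodule.mem_span_singleton_self _)) c3
    · rw [map_mul, map_inv, map_mul, e2, e3, ea, root_mul, root_inv, root_mul]
      refine root_mem_RP (Submodule.mem_span_singleton.2 ⟨a 4, ?_⟩) _
      funext m
      fin_cases m <;> simp [ha.1, ha.2]
  have hsd : ∀ x ∈ s, ∀ n ∈ zpowers d, Commute x n := by
    rintro x ⟨i, h0, h1, hx⟩ n hn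
    obtain ⟨k, rfl⟩ := mem_zpowers_iff.1 hn
    exact ((hQ i h0 h1).commute x hx).zpow_right k
  have hAD : ∀ a ∈ A, ∀ b ∈ A, ⁅a, b⁆ ∈ zpowers d := fun a ha b hb => by
    refine commutator_mem_of_gens hsd ?_ (hAs ha) (hAs hb)
    rintro x ⟨i, hi0, hi1, hx⟩ y ⟨j, hj0, hj1, hy⟩
    rcases eq_or_ne i j with rfl | hij
    · exact (hQ i hi0 hi1).comm x y hx hy
    · rw [commutatorElement_eq_one_iff_mul_comm.2
        (commute_blocks hF E hi0 hi1 hj0 hj1 hij (hQ i hi0 hi1) hx hy).eq]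
      exact one_mem _
  have hDA : ∀ n ∈ zpowers d, ∀ a ∈ A, Commute n a := fun n hn a ha => by
    have h : closure s ≤ centralizer {n} := (closure_le _).2 fun y hy =>
      mem_centralizer_singleton_iff.2 (hsd y hy n hn).eq
    exact (mem_centralizer_singleton_iff.1 (h (hAs ha))).symm
  -- the element of order three
  obtain ⟨w, -, hw⟩ := exists_cube_root hF
  set cw : Fin 5 → normOne F 2 := ![1, 1, w, w, w] with hcw
  have hprod : ∏ m, cw m = 1 := by
    rw [Fin.prod_univ_five]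
    refine Subtype.ext (Units.ext ?_)
    simp only [hcw]
    push_cast
    simp
    linear_combination (((w : Fˣ) : F) - 1) * hw
  obtain ⟨t, ht⟩ := exists_lift_of_SG hF E (diagHom_mem_SG hF hprod)
  have hwp : (diagHom hF cw).1 pv = pv := diag_fix hF cw _ fun m => by
    fin_cases m <;> simp [hcw]
  have hww : ∀ a ∈ wsub, (diagHom hF cw).1 a = ((w : Fˣ) : F) • a := fun a ha =>
    diag_apply_eq_smul hF cw a w fun m => by fin_cases m <;> simp [hcw, ha.1, ha.2]
  have hwr : (diagHom hF cw).1 rv = ((w : Fˣ) : F) • rv :=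
    diag_apply_eq_smul hF cw _ w fun m => by fin_cases m <;> simp [hcw]
  have htA : ∀ a ∈ A, t * a * t⁻¹ ∈ A := fun a ha => by
    show f (t * a * t⁻¹) ∈ bigRP hF
    rw [map_mul, map_mul, map_inv, ht]
    exact conj_RP hwp (fun b hb => by rw [hww b hb]; exact Submodule.smul_mem _ _ hb) ha
  have hcop : ∀ {x : Γ}, Commute (diagHom hF cw) (f x) → Commute x t := fun {x} h =>
    (commute_of_coprime E.central E.prime E.card_ker (a := t) (b := x) (by rwa [ht]) (m := 3)
      (by rw [ht, diag_cube]) (by norm_num)).symm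
  have hwn : ((w : Fˣ) : F) * (stdHerm hF 5).conj ((w : Fˣ) : F) = 1 := by
    rw [stdHerm_conj]; exact normOne_mul_pow w.2
  have hSt : ∀ x ∈ S, Commute x t := fun x hx => hcop <| by
    obtain ⟨b, hb, l, cb, eb⟩ := hx
    show diagHom hF cw * f x = f x * diagHom hF cw
    rw [← mul_inv_eq_iff_eq_mul, eb, root_conj]
    have hb' : (diagHom hF cw).1 b = ((w : Fˣ) : F) • b := by
      obtain ⟨k, rfl⟩ := Submodule.mem_span_singleton.1 hb
      exact hww _ (Submodule.smul_mem _ _ ⟨by simp, by simp⟩)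
    have c' : RootCond (stdHerm hF 5) (((w : Fˣ) : F) • rv) (((w : Fˣ) : F) • b) l := by
      have := cb.map (diagHom hF cw)
      rwa [hwr, hb'] at this
    rw [root_congr _ c' hwr hb' rfl, root_smul _ (left_ne_zero_of_mul_eq_one hwn)]
    refine root_congr _ _ rfl ?_ (by rw [hwn, one_mul])
    rw [smul_smul, mul_comm, hwn, one_smul]
  have hdt : Commute d t := hcop <| by
    show diagHom hF cw * f d = f d * diagHom hF cw
    rw [← mul_inv_eq_iff_eq_mul, hfd, tr, root_conj]
    exact root_congr _ _ hwp (map_zero _) rfl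
  -- averaging
  have havg : ∀ a ∈ A, f (avg t a) = 1 ∨ f (avg t a) = f d := by
    rintro a ⟨b, hb, l, cb, eb⟩
    have c' : RootCond (stdHerm hF 5) pv (((w : Fˣ) : F) • b) l := by
      have := cb.map (diagHom hF cw)
      rwa [hwp, hww b hb] at this
    have c'' : RootCond (stdHerm hF 5) pv (((w : Fˣ) : F) • ((w : Fˣ) : F) • b) l := by
      have := c'.map (diagHom hF cw)
      rwa [hwp, hww _ (Submodule.smul_mem _ _ hb)] at this
    simp only [avg, map_mul, map_inv, ht, eb]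
    rw [root_conj, root_congr _ c' hwp (hww b hb) rfl, root_conj,
      root_congr _ c'' hwp (hww _ (Submodule.smul_mem _ _ hb)) rfl, hfd]
    exact root_triple hF hw cb c' c''
  obtain ⟨M, hM⟩ := exists_avgKer (A := A) (D := zpowers d) hAD hDA htA
  have hdA : d ∈ A := by
    show f d ∈ bigRP hF
    rw [hfd]; exact root_mem_RP (zero_mem _) _
  have hMD : zpowers d ≤ M := zpowers_le.2 ((hM d).2 ⟨hdA, by
    have : avg t d = d * d * d := by simp only [avg, hdt.symm.eq, mul_inv_cancel_right]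
    rw [this]
    exact mul_mem (mul_mem (mem_zpowers d) (mem_zpowers d)) (mem_zpowers d)⟩)
  have hker : ∀ z, f z = 1 → z ∈ center Γ := fun z hz => E.central hz
  have hMker : ∀ z ∈ M, f z = 1 → z = 1 := by
    intro z hz hfz
    have h1 := ((hM z).1 hz).2
    rw [← one_mul z, avg_mul_central (hker z hfz), show avg t (1 : Γ) = 1 by simp [avg], one_mul,
      pow_three, ker_sq hF E hfz, mul_one] at h1
    rcases zpowers_cases Q2.sq h1 with h | h
    · exact h
    · exact absurd (show d ∈ f.ker from (MonoidHom.mem_ker).2 (h ▸ hfz)) hd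
  have hAM : ∀ a ∈ A, ∃ z, f z = 1 ∧ a * z ∈ M := by
    intro a ha
    have key : ∀ z, f z = 1 → avg t (a * z) ∈ zpowers d → a * z ∈ M := fun z hz h =>
      (hM _).2 ⟨mul_mem ha (show f z ∈ bigRP hF by rw [hz]; exact one_mem _), h⟩
    rcases havg a ha with h | h
    · refine ⟨_, h, key _ h ?_⟩
      rw [avg_mul_central (hker _ h), pow_three, ker_sq hF E h, mul_one, ker_sq hF E h]
      exact one_mem _
    · have hz : f ((avg t a)⁻¹ * d) = 1 := by rw [map_mul, map_inv, h, inv_mul_cancel]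
      refine ⟨_, hz, key _ hz ?_⟩
      rw [avg_mul_central (hker _ hz), pow_three, ker_sq hF E hz, mul_one, mul_inv_cancel_left]
      exact mem_zpowers _
  -- the small root group
  obtain ⟨c, R, hc⟩ := exists_quatLift h2 (hfix_five hF) E (rv_iso hF) (h_ev_self hF 4)
    (by rw [h_rv_right]; simp) (RP_le_SG hF _) rv_ne
  have hSA : ∀ x ∈ S, ∀ a ∈ A, x * a * x⁻¹ ∈ A := fun x hx a ha => by
    show f (x * a * x⁻¹) ∈ bigRP hF
    rw [map_mul, map_mul, map_inv]
    exact small_normalizes hF hx ha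
  have hSd : ∀ x ∈ S, x * d * x⁻¹ ∈ zpowers d := fun x hx => by
    obtain ⟨i, j, hi, hj, e⟩ := Q2.witness
    rw [← e, conjugate_commutatorElement]
    have hle : ∀ {y}, f y ∈ RP pv (pv_iso hF) (F ∙ ev 2) → y ∈ A := fun {y} h => by
      obtain ⟨b, hb, l, cb, eb⟩ := h
      exact ⟨b, span_ev_le (by decide) (by decide) hb, l, cb, eb⟩
    rw [e]
    exact hAD _ (hSA x hx i (hle hi)) _ (hSA x hx j (hle hj))
  have hSM : ∀ x ∈ S, ∀ m ∈ M, x * m * x⁻¹ ∈ M := fun x hx m hm => by
    obtain ⟨hmA, hmD⟩ := (hM m).1 hm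
    refine (hM _).2 ⟨hSA x hx m hmA, ?_⟩
    rw [avg_conj (hSt x hx)]
    obtain ⟨k, hk⟩ := mem_zpowers_iff.1 hmD
    rw [← hk, ← conj_zpow]
    exact zpow_mem (hSd x hx) k
  have hAMn : ∀ a ∈ A, ∀ m ∈ M, a * m * a⁻¹ ∈ M := fun a ha m hm => by
    rw [show a * m * a⁻¹ = ⁅a, m⁆ * m by simp only [commutatorElement_def]; group]
    exact mul_mem (hMD (hAD a ha m ((hM m).1 hm).1)) hm
  set N := M ⊔ zpowers c with hN
  have hcS : c ∈ S := by
    show f c ∈ smallRP hF
    rw [R.image]; exact root_mem_RP (zero_mem _) _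
  have hSc : ∀ x ∈ S, ∀ n ∈ zpowers c, x * n * x⁻¹ = n := fun x hx n hn => by
    obtain ⟨k, rfl⟩ := mem_zpowers_iff.1 hn
    rw [((R.commute x hx).zpow_right k).eq, mul_inv_cancel_right]
  set gs : Set Γ := (M : Set Γ) ∪ (S : Set Γ) ∪ (f.ker : Set Γ) with hgs
  have hinv : ∀ x ∈ gs, x⁻¹ ∈ gs := by
    rintro x ((h | h) | h)
    · exact Or.inl (Or.inl (inv_mem h))
    · exact Or.inl (Or.inr (inv_mem h))
    · exact Or.inr (inv_mem h)
  have hMN : M ≤ N := le_sup_left
  have hcN : zpowers c ≤ N := le_sup_right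
  have hnorm : ∀ x ∈ gs, ∀ n ∈ N, x * n * x⁻¹ ∈ N := by
    intro x hx n hn
    have base : ∀ n, (n ∈ M ∨ n ∈ zpowers c) → x * n * x⁻¹ ∈ N := by
      intro n hn
      rcases hx with (hx | hx) | hx <;> rcases hn with hn | hn
      · exact mul_mem (mul_mem (hMN hx) (hMN hn)) (inv_mem (hMN hx))
      · exact mul_mem (mul_mem (hMN hx) (hcN hn)) (inv_mem (hMN hx))
      · exact hMN (hSM x hx n hn)
      · rw [hSc x hx n hn]; exact hcN hn
      · rw [← mem_center_iff.1 (hker x hx) n, mul_inv_cancel_right]; exact hMN hn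
      · rw [← mem_center_iff.1 (hker x hx) n, mul_inv_cancel_right]; exact hcN hn
    have : N ≤ N.comap (MulAut.conj x).toMonoidHom :=
      sup_le (fun n hn => base n (Or.inl hn)) (fun n hn => base n (Or.inr hn))
    exact this hn
  have hcomm : ∀ x ∈ gs, ∀ y ∈ gs, ⁅x, y⁆ ∈ N := by
    have hz : ∀ x ∈ f.ker, ∀ y : Γ, ⁅x, y⁆ = 1 ∧ ⁅y, x⁆ = 1 := fun x hx y =>
      ⟨commutatorElement_eq_one_iff_mul_comm.2 (mem_center_iff.1 (hker x hx) y).symm,
        commutatorElement_eq_one_iff_mul_comm.2 (mem_center_iff.1 (hker x hx) y)⟩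
    have hMS : ∀ m ∈ M, ∀ x ∈ S, ⁅x, m⁆ ∈ N := fun m hm x hx => by
      rw [show ⁅x, m⁆ = x * m * x⁻¹ * m⁻¹ by simp only [commutatorElement_def]]
      exact hMN (mul_mem (hSM x hx m hm) (inv_mem hm))
    rintro x hx y hy
    rcases hx with (hx | hx) | hx
    · rcases hy with (hy | hy) | hy
      · exact hMN (hMD (hAD x ((hM x).1 hx).1 y ((hM y).1 hy).1))
      · rw [← commutatorElement_inv]; exact inv_mem (hMS x hx y hy)
      · rw [(hz y hy x).2]; exact one_mem _
    · rcases hy with (hy | hy) | hy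
      · exact hMS y hy x hx
      · exact hcN (R.comm x y hx hy)
      · rw [(hz y hy x).2]; exact one_mem _
    · rw [(hz x hx y).1]; exact one_mem _
  have hK : (twoGrp hF).comap f ≤ closure gs := by
    rw [twoGrp, ← comap_sup_eq_of_le_range f (E.range_eq ▸ RP_le_SG hF _) (E.range_eq ▸ RP_le_SG hF _)]
    refine sup_le (fun a ha => ?_) (fun x hx => subset_closure (Or.inl (Or.inr hx)))
    obtain ⟨z, hz, hm⟩ := hAM a ha
    rw [show a = a * z * z⁻¹ by group]
    exact mul_mem (subset_closure (Or.inl (Or.inl hm))) (subset_closure (Or.inr (inv_mem (show z ∈ f.ker from hz))))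
  intro z hz hfz
  have hzN : z ∈ N := (commutator_le.2 fun a ha b hb =>
    commutator_mem_of_normalized hinv hnorm hcomm (hK ha) (hK hb)) hz
  have hle : zpowers c ≤ normalizer (M : Set Γ) := zpowers_le.2 (mem_normalizer_iff.2 fun m =>
    ⟨hSM c hcS m, fun h => by
      have := hSM _ (inv_mem hcS) _ h
      rwa [show c⁻¹ * (c * m * c⁻¹) * c⁻¹⁻¹ = m by group] at this⟩)
  rw [hN] at hzN
  obtain ⟨m, hm, e, he, rfl⟩ : z ∈ (M : Set Γ) * (zpowers c : Set Γ) := by
    rw [← coe_mul_of_right_le_normalizer_left M (zpowers c) hle]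
    exact hzN
  have hmA : f m ∈ bigRP hF := ((hM m).1 hm).1
  have heS : e ∈ S := zpowers_le.2 hcS he
  have hfe : f m = (f e)⁻¹ := eq_inv_of_mul_eq_one_left (by rw [← map_mul]; exact hfz)
  have hm1 : f m = 1 := bigRP_fix_ev hF hmA (by
    rw [hfe, ← map_inv]; exact (smallRP_fix hF (show e⁻¹ ∈ S from inv_mem heS)).2.1)
  have hm' := hMker m hm hm1
  subst hm'
  simp only [one_mul] at hfz ⊢
  rcases zpowers_cases R.sq he with h | h
  · exact h
  · exact absurd ((MonoidHom.mem_ker).2 (h ▸ hfz)) hc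

/-- `SU(5, 2)` has no perfect central extension with kernel of order two. -/
theorem noExt_five_two : NoExt (stdHerm hF 5) 2 := fun _ _ _ f E =>
  E.false_of_sub (twoGrp_le_SG hF) (m := 13365) (by norm_num) (card_twoGrp hF) (split_twoGrp hF E)

end CfsgLib.ThreeTranspUnitary
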