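import Cfsg.Agent.Lib.PSUCover.Cyclic

/-!
Lifts of quaternion root subgroups in a central extension of `SU(5, 2)`.
-/

set_option autoImplicit false
set_option linter.unusedSectionVars false

namespace CfsgLib.ThreeTranspUnitary

open Module CfsgLib.Classical.Herm HermSpace CfsgLib.PSUCover Subgroup
open scoped commutatorElement

universe u

section Group

variable {Γ : Type*} [Group Γ]

/-- Commutators in a closure fall in a centralised subgroup if those of the generators do. -/
theorem commutator_mem_of_gens {s : Set Γ} {N : Subgroup Γ} (hN : ∀ x ∈ s, ∀ y ∈ N, Commute x y)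
    (h : ∀ x ∈ s, ∀ y ∈ s, ⁅x, y⁆ ∈ N) {x y : Γ} (hx : x ∈ closure s) (hy : y ∈ closure s) :
    ⁅x, y⁆ ∈ N := by
  have hc : ∀ a ∈ closure s, ∀ n ∈ N, a * n * a⁻¹ = n := by
    intro a ha n hn
    have : closure s ≤ centralizer {n} :=
      (closure_le _).2 fun b hb => mem_centralizer_singleton_iff.2 (hN b hb n hn).eq
    rw [mem_centralizer_singleton_iff.1 (this ha), mul_inv_cancel_right]
  have step : ∀ a ∈ s, ∀ b ∈ closure s, ⁅a, b⁆ ∈ N := by
    intro a ha b hb
    induction hb using closure_induction with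
    | mem b hb => exact h a ha b hb
    | one => simp
    | mul b b' hbs _ hb hb' =>
      rw [show ⁅a, b * b'⁆ = ⁅a, b⁆ * (b * ⁅a, b'⁆ * b⁻¹) by simp only [commutatorElement_def]; group,
        hc b hbs _ hb']
      exact mul_mem hb hb'
    | inv b hbs hb =>
      rw [show ⁅a, b⁻¹⁆ = b⁻¹ * ⁅a, b⁆⁻¹ * b⁻¹⁻¹ by simp only [commutatorElement_def]; group,
        hc _ (inv_mem hbs) _ (inv_mem hb)]
      exact inv_mem hb
  induction hx using closure_induction with
  | mem a ha => exact step a ha y hy
  | one => simp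
  | mul a a' has _ ha ha' =>
    rw [show ⁅a * a', y⁆ = a * ⁅a', y⁆ * a⁻¹ * ⁅a, y⁆ by simp only [commutatorElement_def]; group,
      hc a has _ ha']
    exact mul_mem ha' ha
  | inv a has ha =>
    rw [show ⁅a⁻¹, y⁆ = a⁻¹ * ⁅a, y⁆⁻¹ * a⁻¹⁻¹ by simp only [commutatorElement_def]; group,
      hc _ (inv_mem has) _ (inv_mem ha)]
    exact inv_mem ha

end Group

variable {F : Type u} [Field F] {V : Type*} [AddCommGroup V] [Module F V] {H : HermSpace F V}
variable (h2 : (2 : F) = 0) (hfix : ∀ c : F, H.conj c = c → c ≠ 0 → c = 1)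

/-- The root elements at `u` with parameter in `M`. -/
def RP (u : V) (hu : H.h u u = 0) (M : Submodule F V) : Subgroup (Unit' H) where
  carrier := {g | ∃ a ∈ M, ∃ (l : F) (c : RootCond H u a l), g = root H u a l c}
  mul_mem' := by
    rintro _ _ ⟨a, ha, l, c, rfl⟩ ⟨a', ha', l', c', rfl⟩
    exact ⟨_, M.add_mem ha ha', _, c.add c', root_mul c c'⟩
  one_mem' := ⟨0, M.zero_mem, 0, ⟨hu, H.zero_left u, by simp [H.zero_left]⟩,
    unit_ext fun x => (rootFun_zero u x).symm⟩
  inv_mem' := by
    rintro _ ⟨a, ha, l, c, rfl⟩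
    exact ⟨_, M.neg_mem ha, _, c.neg, root_inv c⟩

theorem root_mem_RP {u a : V} {hu : H.h u u = 0} {M : Submodule F V} (ha : a ∈ M) {l : F}
    (c : RootCond H u a l) : root H u a l c ∈ RP u hu M := ⟨a, ha, l, c, rfl⟩

theorem conj_RP {u : V} {hu : H.h u u = 0} {M : Submodule F V} {g x : Unit' H} (hgu : g.1 u = u)
    (hgM : ∀ a ∈ M, g.1 a ∈ M) (hx : x ∈ RP u hu M) : g * x * g⁻¹ ∈ RP u hu M := by
  obtain ⟨a, ha, l, c, rfl⟩ := hx
  rw [root_conj, root_congr _ (by have := c.map g; rwa [hgu] at this) hgu rfl rfl]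
  exact root_mem_RP (hgM a ha) _

include h2 in
theorem root_zero_cond {u : V} (hu : H.h u u = 0) : RootCond H u 0 1 :=
  ⟨hu, H.zero_left u, by rw [map_one, H.zero_left]; linear_combination h2⟩

/-- The central transvection of a root group. -/
def tr (u : V) (hu : H.h u u = 0) (h2 : (2 : F) = 0) : Unit' H := root H u 0 1 (root_zero_cond h2 hu)

include h2 hfix in
theorem root_eq_tr_or {u a : V} {l l' : F} (c : RootCond H u a l) (c' : RootCond H u a l') :
    root H u a l c = root H u a l' c' ∨ root H u a l c = root H u a l' c' * tr u c.1 h2 := by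
  rcases eq_or_ne l l' with h | h
  · exact Or.inl (root_congr _ _ rfl rfl h)
  · refine Or.inr ?_
    have : l - l' = 1 := hfix _ (by
      have e1 := c.2.2
      have e2 := c'.2.2
      rw [map_sub]
      linear_combination e1 - e2 + (l' - l) * h2) (sub_ne_zero.2 h)
    rw [tr, root_mul]
    refine root_congr _ _ rfl (add_zero a).symm ?_
    rw [H.zero_left]
    linear_combination this

variable {Γ : Type*} [Group Γ] [Finite Γ] {f : Γ →* Unit' H}

/-- The lifts of a root group with parameters on one line of norm one. -/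
structure QuatLift (f : Γ →* Unit' H) (u w : V) (hu : H.h u u = 0) (h2 : (2 : F) = 0) (δ : Γ) : Prop where
  image : f δ = tr u hu h2
  commute : ∀ x, f x ∈ RP u hu (F ∙ w) → Commute x δ
  comm : ∀ x y, f x ∈ RP u hu (F ∙ w) → f y ∈ RP u hu (F ∙ w) → ⁅x, y⁆ ∈ zpowers δ
  sq : δ * δ = 1
  witness : ∃ x y, f x ∈ RP u hu (F ∙ w) ∧ f y ∈ RP u hu (F ∙ w) ∧ ⁅x, y⁆ = δ

theorem zpowers_cases {δ : Γ} (hsq : δ * δ = 1) {x : Γ} (hx : x ∈ zpowers δ) : x = 1 ∨ x = δ := by
  have h2' : δ ^ (2 : ℤ) = 1 := by rw [zpow_two, hsq]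
  obtain ⟨k, rfl⟩ := mem_zpowers_iff.1 hx
  rcases Int.even_or_odd k with ⟨j, rfl⟩ | ⟨j, rfl⟩
  · left; rw [← two_mul, zpow_mul, h2', one_zpow]
  · right; rw [zpow_add, zpow_mul, h2', one_zpow, one_mul, zpow_one]

include h2 hfix in
theorem exists_quatLift (E : Ext f 2) {u w : V} (hu : H.h u u = 0) (hw : H.h w w = 1)
    (hwu : H.h w u = 0) (hSG : RP u hu (F ∙ w) ≤ SG H) (hu0 : u ≠ 0) :
    ∃ δ, QuatLift f u w hu h2 δ ∧ δ ∉ f.ker := by
  obtain ⟨t, ht⟩ := H.exists_trace_one
  have htN : t * H.conj t = 1 := by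
    refine hfix _ (by rw [map_mul, H.conj_conj, mul_comm]) (mul_ne_zero ?_ ?_)
    · rintro rfl; simp at ht
    · refine H.conj_ne_zero ?_; rintro rfl; simp at ht
  have c1 : RootCond H u w t := ⟨hu, hwu, by rw [hw]; linear_combination ht + h2⟩
  have c2 : RootCond H u (t • w) t := ⟨hu, by rw [H.smul_left, hwu, mul_zero], by
    rw [H.smul_left, H.smul_right, hw, mul_one, htN]; linear_combination ht + h2⟩
  set g₁ := root H u w t c1 with hg₁
  set g₂ := root H u (t • w) t c2 with hg₂
  have m1 : g₁ ∈ RP u hu (F ∙ w) := root_mem_RP (Submodule.mem_span_singleton_self w) c1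
  have m2 : g₂ ∈ RP u hu (F ∙ w) :=
    root_mem_RP (Submodule.smul_mem _ _ (Submodule.mem_span_singleton_self w)) c2
  obtain ⟨i, hi⟩ : g₁ ∈ f.range := by rw [E.range_eq]; exact hSG m1
  obtain ⟨j, hj⟩ : g₂ ∈ f.range := by rw [E.range_eq]; exact hSG m2
  set T := tr u hu h2 with hT
  have hsq : g₁ * g₁ = T ∧ g₂ * g₂ = T := by
    constructor
    · rw [hg₁, root_mul, hT, tr]
      refine root_congr _ _ rfl (by rw [← two_smul F w, h2, zero_smul]) ?_
      rw [hw]; linear_combination (t - 1) * h2
    · rw [hg₂, root_mul, hT, tr]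
      refine root_congr _ _ rfl (by rw [← two_smul F (t • w), h2, zero_smul]) ?_
      rw [H.smul_left, H.smul_right, hw, mul_one, htN]; linear_combination (t - 1) * h2
  have hcomm : ⁅g₁, g₂⁆ = T := by
    rw [hg₁, hg₂, commutatorElement_def, root_inv, root_inv, root_mul, root_mul, root_mul, hT, tr]
    refine root_congr _ _ rfl (by abel) ?_
    simp only [H.add_right, H.neg_left, H.neg_right, H.smul_left, H.smul_right, hw]
    ring_nf
    linear_combination ht + htN + (1 + H.conj t) * h2
  have hcent : ∀ {x : Γ}, f x = T → Commute x i ∧ Commute x j := by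
    intro x hx
    have key : ∀ (k : Γ) (g : Unit' H), f k = g → g * g = T → Commute x k := by
      intro k g hk hgg
      have hz : (k * k)⁻¹ * x ∈ center Γ := E.central (by
        rw [MonoidHom.mem_ker, map_mul, map_inv, map_mul, hk, hgg, hx, inv_mul_cancel])
      rw [show x = k * k * ((k * k)⁻¹ * x) by group]
      exact ((Commute.refl k).mul_left (Commute.refl k)).mul_left
        ((mem_center_iff.1 hz k).symm : Commute _ k)
    exact ⟨key i g₁ hi hsq.1, key j g₂ hj hsq.2⟩
  set δ := ⁅i, j⁆ with hδ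
  have hfδ : f δ = T := by rw [hδ, map_commutatorElement, hi, hj, hcomm]
  have hδ2 : δ * δ = 1 := by
    have e1 : ⁅i * i, j⁆ = i * δ * i⁻¹ * δ := by rw [hδ]; simp only [commutatorElement_def]; group
    rw [(hcent hfδ).1.symm.eq, mul_inv_cancel_right] at e1
    rw [← e1, commutatorElement_eq_one_iff_mul_comm]
    exact ((hcent (x := i * i) (by rw [map_mul, hi, hsq.1])).2).eq
  have hne : T ≠ 1 := by
    intro h
    obtain ⟨y, hy⟩ := H.exists_h_one hu0
    have e := congrArg (fun g : Unit' H => g.1 y) h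
    simp only [hT, tr, root_apply, one_apply, H.zero_right, hy] at e
    simp at e
    exact hu0 e
  -- the preimage is generated by `i`, `j` and the kernel
  set s : Set Γ := {i, j} ∪ (f.ker : Set Γ) with hs
  have hgen : ∀ x, f x ∈ RP u hu (F ∙ w) → x ∈ closure s := by
    intro x hx
    have hker : ∀ z, f z = 1 → z ∈ closure s := fun z hz => subset_closure (Or.inr hz)
    have hiT : ∀ y, f y = T → y ∈ closure s := fun y hy => by
      rw [show y = i * i * ((i * i)⁻¹ * y) by group]
      exact mul_mem (mul_mem (subset_closure (by simp [hs])) (subset_closure (by simp [hs])))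
        (hker _ (by rw [map_mul, map_inv, map_mul, hi, hsq.1, hy, inv_mul_cancel]))
    have hlift : ∀ (g : Unit' H) (k : Γ), k ∈ closure s → f k = g → f x = g ∨ f x = g * T → x ∈ closure s := by
      intro g k hk hfk h
      rw [show x = k * (k⁻¹ * x) by group]
      refine mul_mem hk ?_
      rcases h with h | h
      · exact hker _ (by rw [map_mul, map_inv, hfk, h, inv_mul_cancel])
      · exact hiT _ (by rw [map_mul, map_inv, hfk, h, inv_mul_cancel_left])
    obtain ⟨a, ha, l, c, e⟩ := hx
    obtain ⟨b, rfl⟩ := Submodule.mem_span_singleton.1 ha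
    have hi' : i ∈ closure s := subset_closure (by simp [hs])
    have hj' : j ∈ closure s := subset_closure (by simp [hs])
    by_cases hb0 : b = 0
    · subst hb0
      refine hlift 1 1 (one_mem _) (map_one f) ?_
      have c0 : RootCond H u ((0 : F) • w) 0 := ⟨hu, by simp [H.zero_left], by simp [H.zero_left]⟩
      have e0 : root H u ((0 : F) • w) 0 c0 = 1 := unit_ext fun y => by simp [root_apply, H.zero_right]
      rcases root_eq_tr_or h2 hfix c c0 with h | h
      · exact Or.inl (by rw [e, h, e0])
      · exact Or.inr (by rw [e, h, e0])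
    by_cases hb1 : b = 1
    · subst hb1
      refine hlift g₁ i hi' hi ?_
      have c1' : RootCond H u ((1 : F) • w) t := by rw [one_smul]; exact c1
      have e0 : root H u ((1 : F) • w) t c1' = g₁ := root_congr _ _ rfl (one_smul F w) rfl
      rcases root_eq_tr_or h2 hfix c c1' with h | h
      · exact Or.inl (by rw [e, h, e0])
      · exact Or.inr (by rw [e, h, e0])
    by_cases hbt : b = t
    · subst hbt
      refine hlift g₂ j hj' hj ?_
      rcases root_eq_tr_or h2 hfix c c2 with h | h
      · exact Or.inl (by rw [e, h])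
      · exact Or.inr (by rw [e, h])
    · have hbn := hfix _ (by rw [map_mul, H.conj_conj, mul_comm]) (mul_ne_zero hb0 (H.conj_ne_zero hb0))
      -- the fourth element of the field
      have hb' : b = 1 + t := by
        by_contra hne'
        have hcard : ∀ y : F, H.conj y = y → y = 0 ∨ y = 1 := fun y hy => by
          rcases eq_or_ne y 0 with h | h
          · exact Or.inl h
          · exact Or.inr (hfix y hy h)
        rcases hcard (b + H.conj b) (by rw [map_add, H.conj_conj, add_comm]) with hbt' | hbt'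
        · rcases hcard b (by linear_combination hbt' - b * h2) with h | h
          · exact hb0 h
          · exact hb1 h
        · rcases hcard (b + t) (by rw [map_add]; linear_combination hbt' + ht - (b + t) * h2 + h2) with h | h
          · exact hbt (by linear_combination h - t * h2)
          · exact hne' (by linear_combination h - t * h2)
      have c3 : RootCond H u (b • w) (t + t - H.h (t • w) w) := by
        have := c1.add c2
        rwa [show w + t • w = b • w by rw [hb']; module] at this
      have e0 : root H u (b • w) (t + t - H.h (t • w) w) c3 = g₁ * g₂ := by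
        rw [hg₁, hg₂, root_mul]
        exact root_congr _ _ rfl (by rw [hb']; module) rfl
      refine hlift (g₁ * g₂) (i * j) (mul_mem hi' hj') (by rw [map_mul, hi, hj]) ?_
      rcases root_eq_tr_or h2 hfix c c3 with h | h
      · exact Or.inl (by rw [e, h, e0])
      · exact Or.inr (by rw [e, h, e0])
  have hN : ∀ x ∈ s, ∀ y ∈ zpowers δ, Commute x y := by
    intro x hx y hy
    have hxd : Commute x δ := by
      rcases hx with (rfl | rfl) | hz
      · exact ((hcent hfδ).1).symm
      · exact ((hcent hfδ).2).symm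
      · exact ((mem_center_iff.1 (E.central hz) δ).symm : Commute x δ)
    obtain ⟨k, rfl⟩ := mem_zpowers_iff.1 hy
    exact hxd.zpow_right k
  have hgens : ∀ x ∈ s, ∀ y ∈ s, ⁅x, y⁆ ∈ zpowers δ := by
    have hz : ∀ x ∈ f.ker, ∀ y : Γ, ⁅x, y⁆ = 1 ∧ ⁅y, x⁆ = 1 := fun x hx y =>
      ⟨commutatorElement_eq_one_iff_mul_comm.2 (mem_center_iff.1 (E.central hx) y).symm,
        commutatorElement_eq_one_iff_mul_comm.2 (mem_center_iff.1 (E.central hx) y)⟩
    rintro x ((rfl | rfl) | hx) y ((rfl | rfl) | hy)
    all_goals first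
      | (rw [(hz _ hx _).1]; exact one_mem _)
      | (rw [(hz _ hy _).2]; exact one_mem _)
      | (rw [commutatorElement_self]; exact one_mem _)
      | exact mem_zpowers _
      | (rw [← commutatorElement_inv]; exact inv_mem (mem_zpowers _))
  refine ⟨δ, ⟨hfδ, fun x hx => ?_, fun x y hx hy => commutator_mem_of_gens hN hgens (hgen x hx) (hgen y hy),
    hδ2, i, j, by rw [hi]; exact m1, by rw [hj]; exact m2, rfl⟩, fun h => hne ?_⟩
  · have : closure s ≤ centralizer {δ} := (closure_le _).2 fun y hy =>
      mem_centralizer_singleton_iff.2 (hN y hy δ (mem_zpowers δ)).eq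
    exact (mem_centralizer_singleton_iff.1 (this (hgen x hx)) : _)
  · rw [← hfδ]; exact h

end CfsgLib.ThreeTranspUnitary
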