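import Cfsg.Agent.Lib.ThreeTranspUnitary.FiveTwoBase
import Cfsg.Agent.Lib.PSUCover.MonoBase
import Cfsg.Agent.Lib.PSUCover.Seven

/-!
A Sylow two-subgroup of `SU(5, 2)` as a product of two root groups.
-/

set_option autoImplicit false
set_option linter.unusedSectionVars false
set_option linter.style.haveILetI false

namespace CfsgLib.ThreeTranspUnitary

open Module CfsgLib.Classical.Herm HermSpace CfsgLib.PSUCover Subgroup

universe u

variable {F : Type u} [Field F] [Fintype F]

/-- The standard basis vectors. -/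
abbrev ev (i : Fin 5) : Fin 5 → F := Pi.single i 1

/-- The isotropic vector of the large root group. -/
abbrev pv : Fin 5 → F := ev 0 + ev 1

/-- The isotropic vector of the small root group. -/
abbrev rv : Fin 5 → F := ev 2 + ev 3

/-- The span of the last three basis vectors. -/
def wsub : Submodule F (Fin 5 → F) where
  carrier := {a | a 0 = 0 ∧ a 1 = 0}
  add_mem' := by rintro a b ⟨h1, h2⟩ ⟨h3, h4⟩; exact ⟨by simp [h1, h3], by simp [h2, h4]⟩
  zero_mem' := ⟨rfl, rfl⟩
  smul_mem' := by rintro c a ⟨h1, h2⟩; exact ⟨by simp [h1], by simp [h2]⟩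

theorem mem_wsub {a : Fin 5 → F} : a ∈ wsub ↔ a 0 = 0 ∧ a 1 = 0 := Iff.rfl

variable (hF : Fintype.card F = 2 ^ 2)

theorem hfix_five : ∀ c : F, (stdHerm hF 5).conj c = c → c ≠ 0 → c = 1 := fun _ hc h0 =>
  fixed_two hF (H := stdHerm hF 5) (conjQ_std hF 5) hc h0

theorem h_five (x y : Fin 5 → F) : (stdHerm hF 5).h x y =
    x 0 * y 0 ^ 2 + x 1 * y 1 ^ 2 + x 2 * y 2 ^ 2 + x 3 * y 3 ^ 2 + x 4 * y 4 ^ 2 := by
  rw [stdHerm_h, Cfsg.hermForm, Fin.sum_univ_five]

theorem h_ev_right (x : Fin 5 → F) (i : Fin 5) : (stdHerm hF 5).h x (ev i) = x i := by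
  rw [h_five]; fin_cases i <;> simp

theorem h_ev_self (i : Fin 5) : (stdHerm hF 5).h (ev i) (ev i) = 1 := by
  rw [h_ev_right]; simp

theorem h_pv_right (x : Fin 5 → F) : (stdHerm hF 5).h x pv = x 0 + x 1 := by
  rw [h_five]; simp

theorem h_rv_right (x : Fin 5 → F) : (stdHerm hF 5).h x rv = x 2 + x 3 := by
  rw [h_five]; simp

theorem pv_iso : (stdHerm hF 5).h pv pv = 0 := by
  rw [h_pv_right]; simp [← two_mul, two_zero hF]

theorem rv_iso : (stdHerm hF 5).h rv rv = 0 := by
  rw [h_rv_right]; simp [← two_mul, two_zero hF]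

theorem h_wsub_pv {a : Fin 5 → F} (ha : a ∈ wsub) : (stdHerm hF 5).h a pv = 0 := by
  rw [h_pv_right, ha.1, ha.2, add_zero]

theorem pv_ne : (pv : Fin 5 → F) ≠ 0 := fun e => by simpa using congrFun e 0

theorem rv_ne : (rv : Fin 5 → F) ≠ 0 := fun e => by simpa using congrFun e 2

theorem span_ev_le {i : Fin 5} (h0 : i ≠ 0) (h1 : i ≠ 1) : (F ∙ (ev i : Fin 5 → F)) ≤ wsub :=
  (Submodule.span_singleton_le_iff_mem _ _).2 ⟨by simp [h0.symm], by simp [h1.symm]⟩

/-- The large root group. -/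
abbrev bigRP : Subgroup (Unit' (stdHerm hF 5)) := RP pv (pv_iso hF) wsub

/-- The small root group. -/
abbrev smallRP : Subgroup (Unit' (stdHerm hF 5)) := RP rv (rv_iso hF) (F ∙ ev 4)

theorem RP_le_SG {u : Fin 5 → F} {hu : (stdHerm hF 5).h u u = 0} (M : Submodule F (Fin 5 → F)) :
    RP u hu M ≤ SG (stdHerm hF 5) := by
  rintro _ ⟨a, _, l, c, rfl⟩
  exact detHom_root c

theorem RP_pow_four {u : Fin 5 → F} {hu : (stdHerm hF 5).h u u = 0} {M : Submodule F (Fin 5 → F)}
    {g : Unit' (stdHerm hF 5)} (hg : g ∈ RP u hu M) : g ^ 4 = 1 := by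
  obtain ⟨a, _, l, c, rfl⟩ := hg
  have h2 := two_zero hF
  have ha : a + a = 0 := by rw [← two_smul F a, h2, zero_smul]
  rw [show (4 : ℕ) = 2 * 2 from rfl, pow_mul, sq, sq, root_mul, root_mul]
  refine unit_ext fun x => ?_
  rw [root_apply, ha, HermSpace.zero_left, one_apply]
  simp only [add_zero, sub_zero, smul_zero, HermSpace.zero_right, neg_zero, zero_add]
  rw [show (l + l - (stdHerm hF 5).h a a + (l + l - (stdHerm hF 5).h a a)) = 0 by
    linear_combination (l + l - (stdHerm hF 5).h a a) * h2, zero_mul, zero_smul, add_zero]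

theorem smallRP_fix {s : Unit' (stdHerm hF 5)} (hs : s ∈ smallRP hF) :
    s.1 pv = pv ∧ s.1 (ev 0) = ev 0 ∧ ∀ a ∈ wsub, s.1 a ∈ wsub := by
  obtain ⟨b, hb, l, c, rfl⟩ := hs
  obtain ⟨k, rfl⟩ := Submodule.mem_span_singleton.1 hb
  refine ⟨?_, ?_, fun a ha => ?_⟩
  · rw [root_apply, h_rv_right, HermSpace.smul_right, h_ev_right]; simp
  · rw [root_apply, h_rv_right, HermSpace.smul_right, h_ev_right]; simp
  · rw [root_apply]
    refine add_mem (add_mem ha (Submodule.smul_mem _ _ (Submodule.smul_mem _ _ ?_)))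
      (Submodule.smul_mem _ _ ?_) <;> exact ⟨by simp, by simp⟩

theorem bigRP_fix_ev {g : Unit' (stdHerm hF 5)} (hg : g ∈ bigRP hF) (h : g.1 (ev 0) = ev 0) :
    g = 1 := by
  obtain ⟨a, ha, l, c, rfl⟩ := hg
  have h0 : (stdHerm hF 5).h (ev 0) a = 0 :=
    HermSpace.h_comm_zero _ (by rw [h_ev_right, ha.1])
  rw [root_apply, h_pv_right, h0] at h
  simp only [Pi.single_eq_same, Pi.single_eq_of_ne (show (1 : Fin 5) ≠ 0 by decide), add_zero,
    one_smul, neg_zero, zero_add, mul_one] at h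
  have hl : l = 0 := by
    have := congrFun h 1
    simpa [ha.2] using this
  have ha0 : a = 0 := by
    funext i
    have := congrFun h i
    simpa [hl] using this
  subst hl ha0
  exact unit_ext fun x => rootFun_zero pv x

theorem small_normalizes {s : Unit' (stdHerm hF 5)} (hs : s ∈ smallRP hF)
    {x : Unit' (stdHerm hF 5)} (hx : x ∈ bigRP hF) : s * x * s⁻¹ ∈ bigRP hF :=
  conj_RP (smallRP_fix hF hs).1 (smallRP_fix hF hs).2.2 hx

theorem smallRP_le_normalizer : smallRP hF ≤ normalizer (bigRP hF : Set (Unit' (stdHerm hF 5))) :=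
  fun s hs => mem_normalizer_iff.2 fun x => ⟨small_normalizes hF hs, fun h => by
    have := small_normalizes hF (inv_mem hs) h
    rwa [show s⁻¹ * (s * x * s⁻¹) * s⁻¹⁻¹ = x by group] at this⟩

/-- The two-subgroup. -/
abbrev twoGrp : Subgroup (Unit' (stdHerm hF 5)) := bigRP hF ⊔ smallRP hF

theorem twoGrp_le_SG : twoGrp hF ≤ SG (stdHerm hF 5) :=
  sup_le (RP_le_SG hF _) (RP_le_SG hF _)

theorem finite_SG : Finite (SG (stdHerm hF 5)) := by
  refine Nat.finite_of_card_ne_zero ?_
  rw [card_SG_five hF]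
  norm_num

theorem card_twoGrp : Nat.card (SG (stdHerm hF 5)) ∣ 13365 * Nat.card (twoGrp hF) := by
  classical
  haveI := finite_SG hF
  haveI : Finite (twoGrp hF) :=
    Finite.of_injective _ (Subgroup.inclusion_injective (twoGrp_le_SG hF))
  have hP : IsPGroup 2 (twoGrp hF) := by
    have h4 : ∀ {u : Fin 5 → F} {hu : (stdHerm hF 5).h u u = 0} (M : Submodule F (Fin 5 → F)),
        IsPGroup 2 (RP u hu M) := fun M g =>
      ⟨2, Subtype.ext (by rw [SubmonoidClass.coe_pow]; exact RP_pow_four hF g.2)⟩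
    rw [twoGrp, sup_comm]
    exact (h4 _).to_sup_of_normal_right' (h4 _) (smallRP_le_normalizer hF)
  obtain ⟨k, hk⟩ := hP.exists_card_eq
  have htr : ∀ u a : Fin 5 → F, (stdHerm hF 5).h u u = 0 → (stdHerm hF 5).h a u = 0 →
      ∃ l, RootCond (stdHerm hF 5) u a l := fun u a hu ha => by
    obtain ⟨l, hl⟩ := (stdHerm hF 5).exists_trace ((stdHerm hF 5).conj_diag a)
    exact ⟨l, hu, ha, by linear_combination hl + (stdHerm hF 5).h a a * two_zero hF⟩
  let bb : Bool → F := fun s => if s then 1 else 0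
  have hbb : Function.Injective bb := by
    intro a b; cases a <;> cases b <;> simp [bb]
  let av : (Fin 3 → F) → Fin 5 → F := fun v => ![0, 0, v 0, v 1, v 2]
  have hav : ∀ v, av v ∈ wsub := fun v => ⟨rfl, rfl⟩
  choose lt hlt using fun v => htr pv (av v) (pv_iso hF) (h_wsub_pv hF (hav v))
  have hbr : ∀ b : F, (stdHerm hF 5).h (b • ev 4) rv = 0 := fun b => by rw [h_rv_right]; simp
  choose kt hkt using fun b => htr rv (b • ev 4) (rv_iso hF) (hbr b)
  have hcs : ∀ {u a : Fin 5 → F} {l : F} (c : RootCond (stdHerm hF 5) u a l) (s : Bool),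
      RootCond (stdHerm hF 5) u a (l + bb s) := fun c s => ⟨c.1, c.2.1, by
    rw [map_add]
    cases s
    · simp only [bb, Bool.false_eq_true, if_false, map_zero, add_zero]; exact c.2.2
    · simp only [bb, if_true, map_one]; linear_combination c.2.2 + two_zero hF⟩
  let φ : ((Fin 3 → F) × Bool) × (F × Bool) → twoGrp hF := fun z =>
    ⟨root _ pv (av z.1.1) _ (hcs (hlt z.1.1) z.1.2) * root _ rv (z.2.1 • ev 4) _ (hcs (hkt z.2.1) z.2.2),
      mul_mem (le_sup_left (a := bigRP hF) (root_mem_RP (hav _) _))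
        (le_sup_right (a := bigRP hF) (root_mem_RP
          (Submodule.smul_mem _ _ (Submodule.mem_span_singleton_self _)) _))⟩
  have hφ : Function.Injective φ := by
    rintro ⟨⟨v, s⟩, b, t⟩ ⟨⟨v', s'⟩, b', t'⟩ e
    have e' := congrArg Subtype.val e
    simp only [φ] at e'
    have e0 := congrArg (fun g : Unit' (stdHerm hF 5) => g.1 (ev 0)) e'
    simp only [CfsgLib.Classical.Herm.mul_apply] at e0
    rw [(smallRP_fix hF (root_mem_RP (hu := rv_iso hF)
        (Submodule.smul_mem _ b (Submodule.mem_span_singleton_self _)) _)).2.1,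
      (smallRP_fix hF (root_mem_RP (hu := rv_iso hF)
        (Submodule.smul_mem _ b' (Submodule.mem_span_singleton_self _)) _)).2.1] at e0
    have ha : ∀ w, (stdHerm hF 5).h (ev 0) (av w) = 0 := fun w =>
      HermSpace.h_comm_zero _ (by rw [h_ev_right]; rfl)
    simp only [root_apply, h_pv_right, ha] at e0
    have hv : v = v' := by
      funext i
      fin_cases i
      · simpa [av] using congrFun e0 2
      · simpa [av] using congrFun e0 3
      · simpa [av] using congrFun e0 4
    subst hv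
    have hs : s = s' := hbb (by simpa [av] using congrFun e0 1)
    subst hs
    have e2 := congrArg (fun g : Unit' (stdHerm hF 5) => g.1 (ev 2)) (mul_left_cancel e')
    simp only [root_apply, h_rv_right, HermSpace.smul_right, h_ev_right] at e2
    have hb : b = b' := by simpa using congrFun e2 4
    subst hb
    have ht : t = t' := hbb (by simpa using congrFun e2 3)
    subst ht
    rfl
  have hge : 2 ^ 10 ≤ 2 ^ k := by
    rw [← hk]
    refine le_of_eq_of_le ?_ (Nat.card_le_card_of_injective φ hφ)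
    simp [Nat.card_prod, Nat.card_fun, Nat.card_eq_fintype_card, hF]
  rw [card_SG_five hF, hk]
  refine dvd_trans (mul_dvd_mul_right (pow_dvd_pow 2 ((Nat.pow_le_pow_iff_right (by norm_num)).1 hge)) _) ?_
  rw [mul_comm]
  norm_num

end CfsgLib.ThreeTranspUnitary
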