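import Cfsg.Agent.Lib.ThreeTranspUnitary.Radical

/-!
A centreless 3-transposition group over a quotient with elementary abelian kernel: elements of the kernel
centralised by the perp of a transposition, lifts of elements of order three, and inverting transpositions.
-/

set_option autoImplicit false

namespace CfsgLib.ThreeTranspUnitary

open Subgroup
open scoped commutatorElement

universe u v

variable {G : Type u} [Group G] {S : Type v} [Group S]

/-- The standing hypotheses. -/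
structure Setting (π : G →* S) (D : Set G) : Prop where
  cls : Cfsg.IsThreeTranspositionClass D
  surj : Function.Surjective π
  elem : Cfsg.IsElementaryAbelian 2 π.ker
  centre : center G = ⊥
  gen : ∀ d ∈ D, ∀ f ∈ D, ¬ Commute (π d) (π f) →
    closure {t : S | ∃ e ∈ D, π e = t ∧ (Commute t (π d) ∨ Commute t (π f))} = ⊤

variable (π : G →* S) (D : Set G)

/-- The kernel elements centralised by the transpositions commuting with `t` modulo the kernel. -/
def perp (t : S) : Subgroup G := π.ker ⊓ centralizer {e | e ∈ D ∧ Commute (π e) t}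

/-- The kernel elements fixed by the lifts of `x`. -/
def fixKer (x : S) : Subgroup G := π.ker ⊓ centralizer (π ⁻¹' {x})

variable {π D}

theorem mem_perp {t : S} {k : G} :
    k ∈ perp π D t ↔ π k = 1 ∧ ∀ e ∈ D, Commute (π e) t → Commute e k := by
  simp [perp, mem_centralizer_iff, Commute, SemiconjBy, MonoidHom.mem_ker, and_imp]

theorem mem_fixKer {x : S} {k : G} :
    k ∈ fixKer π x ↔ π k = 1 ∧ ∀ g, π g = x → Commute g k := by
  simp [fixKer, mem_centralizer_iff, Commute, SemiconjBy, MonoidHom.mem_ker]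

namespace Setting

variable (P : Setting π D)
include P

theorem ker_commute {u v : G} (hu : π u = 1) (hv : π v = 1) : Commute u v :=
  congrArg Subtype.val (P.elem.1.is_comm.comm ⟨u, hu⟩ ⟨v, hv⟩)

theorem ker_sq {u : G} (hu : π u = 1) : u * u = 1 := by rw [← sq]; exact P.elem.2 u hu

theorem ker_inv {u : G} (hu : π u = 1) : u⁻¹ = u := inv_eq_of_mul_eq_one_right (P.ker_sq hu)

theorem isPGroup : IsPGroup 2 π.ker := fun u => ⟨1, Subtype.ext (by rw [pow_one]; exact P.elem.2 u u.2)⟩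

theorem act_eq {g g' : G} (h : π g = π g') {u : G} (hu : π u = 1) : g * u * g⁻¹ = g' * u * g'⁻¹ := by
  have hk : π (g'⁻¹ * g) = 1 := by rw [map_mul, map_inv, h, inv_mul_cancel]
  calc g * u * g⁻¹ = g' * ((g'⁻¹ * g) * u * (g'⁻¹ * g)⁻¹) * g'⁻¹ := by group
    _ = _ := by rw [(P.ker_commute hk hu).eq, mul_inv_cancel_right]

theorem mem_fixKer_of {x : S} {g k : G} (hk : π k = 1) (hg : π g = x) (h : Commute g k) :
    k ∈ fixKer π x := by
  refine mem_fixKer.2 ⟨hk, fun g' hg' => ?_⟩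
  have := P.act_eq (hg.trans hg'.symm) hk
  rw [h.eq, mul_inv_cancel_right] at this
  exact mul_inv_eq_iff_eq_mul.1 this.symm

theorem fixKer_mul {x y : S} {k : G} (hx : k ∈ fixKer π x) (hy : k ∈ fixKer π y) :
    k ∈ fixKer π (x * y) := by
  obtain ⟨g, rfl⟩ := P.surj x
  obtain ⟨h, rfl⟩ := P.surj y
  exact P.mem_fixKer_of (mem_fixKer.1 hx).1 (map_mul π g h)
    (((mem_fixKer.1 hx).2 g rfl).mul_left ((mem_fixKer.1 hy).2 h rfl))

theorem fixKer_inv {x : S} {k : G} (hx : k ∈ fixKer π x) : k ∈ fixKer π x⁻¹ := by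
  obtain ⟨g, rfl⟩ := P.surj x
  exact P.mem_fixKer_of (mem_fixKer.1 hx).1 (map_inv π g) ((mem_fixKer.1 hx).2 g rfl).inv_left

theorem fixKer_conj {x : S} {k : G} (hx : k ∈ fixKer π x) (g : G) :
    g * k * g⁻¹ ∈ fixKer π (π g * x * (π g)⁻¹) := by
  obtain ⟨h, rfl⟩ := P.surj x
  obtain ⟨hk, hh⟩ := mem_fixKer.1 hx
  exact P.mem_fixKer_of (by simp [hk]) (g := g * h * g⁻¹) (by simp)
    ((Commute.conj_iff g).2 (hh h rfl))

theorem perp_conj {t : S} {k : G} (hk : k ∈ perp π D t) (g : G) :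
    g * k * g⁻¹ ∈ perp π D (π g * t * (π g)⁻¹) := by
  obtain ⟨h1, h2⟩ := mem_perp.1 hk
  refine mem_perp.2 ⟨by simp [h1], fun e he hc => ?_⟩
  have hc' : Commute (π (g⁻¹ * e * g⁻¹⁻¹)) t := by
    rw [← Commute.conj_iff (π g)]
    rwa [show π g * π (g⁻¹ * e * g⁻¹⁻¹) * (π g)⁻¹ = π e by simp [mul_assoc]]
  have := (Commute.conj_iff g).2 (h2 _ (conj_mem P.cls he) hc')
  rwa [show g * (g⁻¹ * e * g⁻¹⁻¹) * g⁻¹ = e by group] at this

theorem perp_inf {d f : G} (hd : d ∈ D) (hf : f ∈ D) (hn : ¬ Commute (π d) (π f)) {k : G}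
    (h1 : k ∈ perp π D (π d)) (h2 : k ∈ perp π D (π f)) : k = 1 := by
  obtain ⟨hk, h1⟩ := mem_perp.1 h1
  obtain ⟨-, h2⟩ := mem_perp.1 h2
  have hmap : (centralizer {k}).map π = ⊤ := by
    rw [eq_top_iff, ← P.gen d hd f hf hn, closure_le]
    rintro _ ⟨e, he, rfl, hc⟩
    exact ⟨e, mem_centralizer_singleton_iff.2 (hc.elim (h1 e he) (h2 e he)).eq, rfl⟩
  have hc : k ∈ center G := mem_center_iff.2 fun g => by
    obtain ⟨l, hl, hlg⟩ : π g ∈ (centralizer {k}).map π := by rw [hmap]; trivial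
    have h := P.act_eq hlg hk
    rw [mem_centralizer_singleton_iff.1 hl, mul_inv_cancel_right] at h
    exact (mul_inv_eq_iff_eq_mul.1 h.symm)
  rwa [P.centre, mem_bot] at hc

theorem commutator_mem_perp {d u : G} (hd : d ∈ D) (hu : π u = 1) : ⁅u, d⁆ ∈ perp π D (π d) := by
  refine mem_perp.2 ⟨by simp [commutatorElement_def, hu], fun e he hc => ?_⟩
  exact (commute_of_image π P.cls P.isPGroup he (conj_mem P.cls hd) (by simpa [hu] using hc)).mul_right
    (commute_of_image π P.cls P.isPGroup he hd hc).inv_right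

/-- `u` times its image under a transposition lies in the perp group of that transposition. -/
theorem mul_conj_mem_perp {d u : G} (hd : d ∈ D) (hu : π u = 1) :
    u * (d * u * d⁻¹) ∈ perp π D (π d) := by
  have h := P.commutator_mem_perp hd hu
  rwa [show ⁅u, d⁆ = u * (d * u⁻¹ * d⁻¹) by simp only [commutatorElement_def]; group, P.ker_inv hu] at h

theorem exists_lift_three {x : S} (hx : x ^ 3 = 1) : ∃ g, π g = x ∧ g ^ 3 = 1 := by
  obtain ⟨g, rfl⟩ := P.surj x
  refine ⟨g ^ 4, ?_, ?_⟩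
  · rw [map_pow, pow_succ, hx, one_mul]
  · have hk : π (g ^ 3) = 1 := by rw [map_pow, hx]
    rw [← pow_mul, show 4 * 3 = 3 * 2 * 2 from rfl, pow_mul, pow_mul, sq (g ^ 3), P.ker_sq hk, one_pow]

theorem conj_three {g g' : G} (h : π g = π g') (hg : g ^ 3 = 1) (hg' : g' ^ 3 = 1) :
    ∃ u, π u = 1 ∧ u * g * u⁻¹ = g' := by
  have hk₀ : π (g' * g⁻¹) = 1 := by rw [map_mul, map_inv, h, mul_inv_cancel]
  obtain ⟨k, hk, rfl⟩ : ∃ k, π k = 1 ∧ g' = k * g := ⟨g' * g⁻¹, hk₀, by group⟩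
  clear hk₀
  have hgk : π (g * k * g⁻¹) = 1 := by simp [hk]
  refine ⟨g * k * g⁻¹, hgk, ?_⟩
  rw [P.ker_inv hgk]
  -- the product of the three images of `k` is trivial
  have h3 : k * (g * k * g⁻¹) * (g * g * k * (g * g)⁻¹) = 1 := by
    calc k * (g * k * g⁻¹) * (g * g * k * (g * g)⁻¹) = (k * g) ^ 3 * (g ^ 3)⁻¹ := by
          simp only [pow_succ, pow_zero, one_mul]; group
      _ = 1 := by rw [hg', hg, inv_one, one_mul]
  have h4 : g * g * k * (g * g)⁻¹ = (k * (g * k * g⁻¹))⁻¹ := eq_inv_of_mul_eq_one_right h3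
  rw [P.ker_inv (by simp [hk] : π (k * (g * k * g⁻¹)) = 1)] at h4
  calc g * k * g⁻¹ * g * (g * k * g⁻¹)
      = g * k * g⁻¹ * (g * g * k * (g * g)⁻¹) * g := by group
    _ = g * k * g⁻¹ * (k * (g * k * g⁻¹)) * g := by rw [h4]
    _ = k * (g * k * g⁻¹ * (g * k * g⁻¹)) * g := by
        rw [← mul_assoc, (P.ker_commute hgk hk).eq]; group
    _ = k * g := by rw [P.ker_sq hgk, mul_one]

theorem exists_lift_commute {g : G} (hg : g ^ 3 = 1) {y : S} (hy : Commute (π g) y) :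
    ∃ h, π h = y ∧ Commute h g := by
  obtain ⟨h, rfl⟩ := P.surj y
  obtain ⟨u, hu, e⟩ := P.conj_three (g := h * g * h⁻¹) (g' := g)
    (by rw [map_mul, map_mul, map_inv, ← hy.eq, mul_inv_cancel_right])
    (by rw [conj_pow, hg, mul_one, mul_inv_cancel]) hg
  refine ⟨u * h, by rw [map_mul, hu, one_mul], ?_⟩
  show u * h * g = g * (u * h)
  rw [← mul_inv_eq_iff_eq_mul]
  conv_rhs => rw [← e]
  group

theorem lift_unique {g : G} (hfix : fixKer π (π g) = ⊥) {h h' : G} (e : π h = π h')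
    (c : Commute h g) (c' : Commute h' g) : h = h' := by
  refine mul_inv_eq_one.1 (mem_bot.1 (hfix ▸ P.mem_fixKer_of (g := g)
    (by rw [map_mul, map_inv, e, mul_inv_cancel]) rfl ?_))
  exact (c.symm).mul_right c'.symm.inv_right

theorem lift_commute {g : G} (hfix : fixKer π (π g) = ⊥) {h h' : G} (c : Commute h g)
    (c' : Commute h' g) (hc : Commute (π h) (π h')) : Commute h h' := by
  refine mul_inv_eq_iff_eq_mul.1 (P.lift_unique hfix ?_ ((c.mul_left c').mul_left c.inv_left) c')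
  rw [map_mul, map_mul, map_inv, hc.eq, mul_inv_cancel_right]

theorem lift_pow_three {g : G} (hfix : fixKer π (π g) = ⊥) {h : G} (c : Commute h g)
    (h3 : π h ^ 3 = 1) : h ^ 3 = 1 :=
  P.lift_unique hfix (by rw [map_pow, h3, map_one]) (c.pow_left 3) (Commute.one_left g)

theorem exists_inverter {d₀ d₁ : G} (h0 : d₀ ∈ D) (h1 : d₁ ∈ D) (hn : ¬ Commute (π d₀) (π d₁))
    {z : G} (hz : π z = π d₀ * π d₁) (hz3 : z ^ 3 = 1) :
    ∃ d ∈ D, π d = π d₀ ∧ d * z * d⁻¹ = z⁻¹ := by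
  have hn' : ¬ Commute d₀ d₁ := fun h => hn (h.map π)
  obtain ⟨u, hu, rfl⟩ := P.conj_three (g := d₀ * d₁) (by rw [map_mul, hz])
    (CfsgLib.ThreeTransp.pow_three_eq_one P.cls.1 h0 h1 hn') hz3
  refine ⟨u * d₀ * u⁻¹, conj_mem P.cls h0, by simp [hu], ?_⟩
  have := CfsgLib.ThreeTransp.conj_mul_eq_inv (P.cls.1.1 d₀ h0) (P.cls.1.1 d₁ h1)
  rw [CfsgLib.ThreeTransp.inv_eq_self (P.cls.1.1 d₀ h0)] at this
  calc u * d₀ * u⁻¹ * (u * (d₀ * d₁) * u⁻¹) * (u * d₀ * u⁻¹)⁻¹
      = u * (d₀ * (d₀ * d₁) * d₀⁻¹) * u⁻¹ := by group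
    _ = _ := by rw [CfsgLib.ThreeTransp.inv_eq_self (P.cls.1.1 d₀ h0), this]; group

theorem inverter_unique {d d' z : G} (hd : d ∈ D) (hd' : d' ∈ D) (e : π d = π d')
    (i : d * z * d⁻¹ = z⁻¹) (i' : d' * z * d'⁻¹ = z⁻¹)
    (hn : ¬ Commute (π d) (π z * π d * (π z)⁻¹)) : d = d' := by
  have hk : π (d * d'⁻¹) = 1 := by rw [map_mul, map_inv, e, mul_inv_cancel]
  have hperp : d * d'⁻¹ ∈ perp π D (π d) := mem_perp.2 ⟨hk, fun x hx hc =>
    (commute_of_image π P.cls P.isPGroup hx hd hc).mul_right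
      (commute_of_image π P.cls P.isPGroup hx hd' (e ▸ hc)).inv_right⟩
  have hcz : Commute z (d * d'⁻¹) := by
    have h1 : d'⁻¹ * z * d' = z⁻¹ := by
      conv_lhs => rw [← inv_inv z, ← i']
      group
    refine (mul_inv_eq_iff_eq_mul.1 ?_).symm
    calc d * d'⁻¹ * z * (d * d'⁻¹)⁻¹ = d * (d'⁻¹ * z * d') * d⁻¹ := by group
      _ = (d * z * d⁻¹)⁻¹ := by rw [h1]; group
      _ = z := by rw [i, inv_inv]
  have h2 : d * d'⁻¹ ∈ perp π D (π (z * d * z⁻¹)) := by
    have := P.perp_conj hperp z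
    rwa [hcz.eq, mul_inv_cancel_right, ← map_inv, ← map_mul, ← map_mul] at this
  exact mul_inv_eq_one.1 (P.perp_inf hd (conj_mem P.cls hd) (by simpa [mul_assoc] using hn) hperp h2)

end Setting

end CfsgLib.ThreeTranspUnitary
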