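import Cfsg.Agent.Lib.ThreeTranspUnitary.Pseudo
import Cfsg.Agent.Lib.ThreeTranspUnitary.Perp

/-!
In a 3-transposition group over `SU(5, 2)` the lifts of pseudo-reflections of order three act without
fixed points on the kernel.
-/

set_option autoImplicit false
set_option linter.unusedSectionVars false

namespace CfsgLib.ThreeTranspUnitary

open Module CfsgLib.Classical.Herm HermSpace CfsgLib.PSUCover Subgroup
open scoped commutatorElement

universe u v

variable {F : Type v} [Field F] [Fintype F] {hF : Fintype.card F = 2 ^ 2} {w : F}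
  (hw : 1 + w + w * w = 0)
variable {G : Type u} [Group G] {D : Set G} {π : G →* SFive hF} (P : Setting π D)
  (hmem : ∀ t v, IsTv t v → t ∈ π '' D)

theorem IsTv.conj_eq {t k t' : SFive hF} {v v' : Fin 5 → F} (a : IsTv t v) (b : IsTv t' v') {c : F}
    (e : k.1.1 v = c • v') : k * t * k⁻¹ = t' := by
  have h := a.conj k
  rw [e] at h
  exact IsTv.unique (h.smul (hfix_five hF)) b

include hmem in
theorem exists_member {v : Fin 5 → F} (h0 : v ≠ 0) (hv : (stdHerm hF 5).h v v = 0) :
    ∃ d ∈ D, IsTv (π d) v := by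
  obtain ⟨t, ht⟩ := exists_isTv (two_zero hF) h0 hv
  obtain ⟨d, hd, rfl⟩ := hmem t v ht
  exact ⟨d, hd, ht⟩

include hw P hmem in
/-- The base case. -/
theorem perp_fixed_base {x : SFive hF} (hx : IsPr hF w x (ev 4)) {tp : SFive hF}
    (htp : IsTv tp (ev 0 + ev 1)) {u : G} (hu : u ∈ perp π D tp) (hux : u ∈ fixKer π x) : u = 1 := by
  have h2 := two_zero hF
  have hw0 : w ≠ 0 := w_ne hw
  obtain ⟨dp, hdp, rfl⟩ := hmem tp _ htp
  have ne2 : ∀ v : Fin 5 → F, v 2 = 1 → v ≠ 0 := fun v h e => by rw [e] at h; exact zero_ne_one h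
  have ne0 : ∀ v : Fin 5 → F, v 0 = 1 → v ≠ 0 := fun v h e => by rw [e] at h; exact zero_ne_one h
  obtain ⟨dq, hdq, htq⟩ := exists_member hmem (ne2 ![1, 0, 1, 0, 0] rfl) (by rw [h_five]; simp; grind)
  obtain ⟨da, hda, hta⟩ := exists_member hmem (ne2 ![0, 1, 1, 0, 0] rfl) (by rw [h_five]; simp; grind)
  obtain ⟨dr, hdr, htr⟩ := exists_member hmem (ne2 ![0, w * w, 1, 0, 0] rfl) (by rw [h_five]; simp; grind)
  obtain ⟨db, hdb, htb⟩ := exists_member hmem (ne0 ![1, w * w, 0, 0, 0] rfl) (by rw [h_five]; simp; grind)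
  obtain ⟨dc, hdc, htc⟩ := exists_member hmem (ne2 ![w * w, 0, 1, 0, 0] rfl) (by rw [h_five]; simp; grind)
  obtain ⟨t34, t34', h34, h34'⟩ := exists_pair hw (h_ev_self hF 3) (h_ev_self hF 4)
    (by rw [h_ev_right]; simp)
  obtain ⟨d34, hd34, rfl⟩ := hmem t34 _ h34
  obtain ⟨d34', hd34', rfl⟩ := hmem t34' _ h34'
  obtain ⟨g, rfl⟩ := P.surj x
  -- the identity in the quotient
  have hid : π (g * (dc * db * da)) = π (dp * (d34 * d34')) := by
    simp only [map_mul]
    refine ker_ext fun y => ?_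
    show (π g).1.1 ((π dc).1.1 ((π db).1.1 ((π da).1.1 y))) =
      (π dp).1.1 ((π d34).1.1 ((π d34').1.1 y))
    funext i
    rw [hx.apply_ev]
    simp only [htc.2.2, htb.2.2, hta.2.2, htp.2.2, h34.2.2, h34'.2.2, h_five, Pi.add_apply,
      Pi.smul_apply, smul_eq_mul]
    fin_cases i <;> simp <;> grind
  obtain ⟨hk, hperp⟩ := mem_perp.1 hu
  have hfixd : ∀ d ∈ D, Commute (π d) (π dp) → Commute d u := hperp
  have c1 : Commute (dp * (d34 * d34')) u := by
    refine (hfixd dp hdp (Commute.refl _)).mul_left ((hfixd _ hd34 (h34.commute htp ?_)).mul_left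
      (hfixd _ hd34' (h34'.commute htp ?_))) <;> rw [h_five] <;> simp
  have c2 : Commute g u := (mem_fixKer.1 hux).2 g rfl
  set y1 := da * u * da⁻¹ with hy1
  set y2 := db * y1 * db⁻¹ with hy2
  have hk1 : π y1 = 1 := by simp [hy1, hk]
  have hk2 : π y2 = 1 := by simp [hy2, hk1]
  have hcyc : dc * y2 * dc⁻¹ = u := by
    have e := P.act_eq hid hk
    rw [c1.eq, mul_inv_cancel_right] at e
    calc dc * y2 * dc⁻¹ = g⁻¹ * (g * (dc * db * da) * u * (g * (dc * db * da))⁻¹) * g := by
          rw [hy2, hy1]; group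
      _ = u := by rw [e, mul_assoc, ← c2.eq, inv_mul_cancel_left]
  -- membership of the perp groups
  have p1 : y1 ∈ perp π D (π dq) := by
    have := P.perp_conj hu da
    rwa [htp.conj_eq htq (c := (1 : F)) (funext fun i => by
      rw [hta.2.2, h_five]; fin_cases i <;> simp <;> grind)] at this
  have p2 : y2 ∈ perp π D (π dr) := by
    have := P.perp_conj p1 db
    rwa [htq.conj_eq htr (c := (1 : F)) (funext fun i => by
      rw [htb.2.2, h_five]; fin_cases i <;> simp <;> grind)] at this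
  have nbr : ¬ Commute (π db) (π dr) := htb.not_commute htr (by rw [h_five]; simp; grind)
  have ncr : ¬ Commute (π dc) (π dr) := htc.not_commute htr (by rw [h_five]; simp)
  have e1 : y1 * (dr * y1 * dr⁻¹) = y2 := by
    have hk' : π (dr * y1 * dr⁻¹) = 1 := by simp [hk1]
    have hB : dr * y1 * dr⁻¹ ∈ perp π D (π db) := by
      have := P.perp_conj p1 dr
      rwa [htq.conj_eq htb (c := (1 : F)) (funext fun i => by
        rw [htr.2.2, h_five]; fin_cases i <;> simp <;> grind)] at this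
    have hR := P.mul_conj_mem_perp hdr hk1
    have hy : y1 * y2 ∈ perp π D (π db) := P.mul_conj_mem_perp hdb hk1
    refine mul_inv_eq_one.1 (P.perp_inf hdb hdr nbr ?_ (mul_mem hR (inv_mem p2)))
    rw [(P.ker_commute hk1 hk').eq, P.ker_inv hk2, mul_assoc]
    exact mul_mem hB hy
  have e2 : u * (dr * u * dr⁻¹) = y2 := by
    have hk' : π (dr * u * dr⁻¹) = 1 := by simp [hk]
    have hB : dr * u * dr⁻¹ ∈ perp π D (π dc) := by
      have := P.perp_conj hu dr
      rwa [htp.conj_eq htc (c := w) (funext fun i => by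
        rw [htr.2.2, h_five]; fin_cases i <;> simp <;> grind)] at this
    have hR := P.mul_conj_mem_perp hdr hk
    have hy : y2 * u ∈ perp π D (π dc) := by
      have := P.mul_conj_mem_perp hdc hk2
      rwa [hcyc] at this
    refine mul_inv_eq_one.1 (P.perp_inf hdc hdr ncr ?_ (mul_mem hR (inv_mem p2)))
    rw [(P.ker_commute hk hk').eq, P.ker_inv hk2, mul_assoc, (P.ker_commute hk hk2).eq]
    exact mul_mem hB hy
  have e3 : dr * (u * y1) * dr⁻¹ = u * y1 := by
    have h1 : dr * u * dr⁻¹ = u * y2 := by rw [← e2, ← mul_assoc u u, P.ker_sq hk, one_mul]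
    have h2' : dr * y1 * dr⁻¹ = y1 * y2 := by rw [← e1, ← mul_assoc y1 y1, P.ker_sq hk1, one_mul]
    calc dr * (u * y1) * dr⁻¹ = dr * u * dr⁻¹ * (dr * y1 * dr⁻¹) := by group
      _ = u * (y2 * y1) * y2 := by rw [h1, h2']; group
      _ = u * y1 := by
        rw [(P.ker_commute hk2 hk1).eq, mul_assoc, mul_assoc, P.ker_sq hk2, mul_one]
  have hA : u * y1 ∈ perp π D (π da) := P.mul_conj_mem_perp hda hk
  have hA' : u * y1 ∈ perp π D (π (dr * da * dr⁻¹)) := by
    have := P.perp_conj hA dr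
    rwa [e3, ← map_inv, ← map_mul, ← map_mul] at this
  have h1 : u * y1 = 1 := by
    refine P.perp_inf hda (conj_mem P.cls hda) ?_ hA hA'
    rw [map_mul, map_mul, map_inv]
    refine hta.not_commute (hta.conj (π dr)) ?_
    rw [htr.2.2, h_five, h_five]
    simp
    grind
  have huy : u = y1 := by
    rw [← mul_inv_eq_one, P.ker_inv hk1]; exact h1
  exact P.perp_inf hdp hdq (htp.not_commute htq (by rw [h_five]; simp)) hu (huy ▸ p1)

end CfsgLib.ThreeTranspUnitary
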