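import Cfsg.Agent.Lib.ThreeTranspUnitary.FixedFree

/-!
The lifts of pseudo-reflections of order three act without fixed points on the kernel.
-/

set_option autoImplicit false
set_option linter.unusedSectionVars false

namespace CfsgLib.ThreeTranspUnitary

open Module CfsgLib.Classical.Herm HermSpace CfsgLib.PSUCover Subgroup
open scoped commutatorElement

universe u v

variable {F : Type v} [Field F] [Fintype F] {hF : Fintype.card F = 2 ^ 2} {w : F}
  (hw : 1 + w + w * w = 0)
include hw in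
/-- An isometry corrected to determinant one. -/
theorem exists_special {f : Fin 5 → F} (k : Unit' (stdHerm hF 5)) (hk : k.1 f = ev 4) :
    ∃ s : SFive hF, ∃ b : F, b * b * b = 1 ∧ s.1.1 f = b • ev 4 := by
  set m : Fˣ := detHom (stdHerm hF 5) k with hm
  have hmN : m ∈ normOne F 2 := detHom_normOne hF 5 k
  let W : normOne F 2 := ⟨m⁻¹, inv_mem hmN⟩
  let c : Fin 5 → normOne F 2 := ![1, 1, 1, 1, W]
  refine ⟨⟨diagHom hF c * k, ?_⟩, ((m⁻¹ : Fˣ) : F), ?_, ?_⟩
  · rw [MonoidHom.mem_ker, map_mul]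
    apply Units.ext
    rw [Units.val_mul, show (detHom (stdHerm hF 5) (diagHom hF c) : F) = ((m⁻¹ : Fˣ) : F) from ?_, ← hm,
      ← Units.val_mul, inv_mul_cancel]
    show (detHom (stdHerm hF 5) (mono hF c 1) : F) = _
    rw [detHom_mono, Fin.prod_univ_five]
    simp [c, W]
  · have := (MonoidHom.mem_ker).1 (inv_mem hmN)
    rw [powMonoidHom_apply] at this
    have := congrArg Units.val this
    simp only [Units.val_pow_eq_pow_val, Units.val_one] at this
    linear_combination this
  · show (diagHom hF c).1 (k.1 f) = _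
    rw [hk]
    exact diag_apply_eq_smul hF c _ W fun j => by fin_cases j <;> simp [c]

variable {G : Type u} [Group G] {D : Set G} {π : G →* SFive hF} (P : Setting π D)
  (htv : ∀ d ∈ D, ∃ v, IsTv (π d) v) (hmem : ∀ t v, IsTv t v → t ∈ π '' D)

include hw P hmem in
theorem perp_fixed {x : SFive hF} (hx : IsPr hF w x (ev 4)) {v : Fin 5 → F} {t : SFive hF}
    (ht : IsTv t v) (hv : v 4 = 0) {u : G} (hu : u ∈ perp π D t) (hux : u ∈ fixKer π x) : u = 1 := by
  have h2 := two_zero hF
  have hw0 := w_ne hw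
  -- a step between non-perpendicular points
  have step : ∀ {a b : Fin 5 → F}, a 4 = 0 → b 4 = 0 → (stdHerm hF 5).h a b ≠ 0 →
      (∀ t, IsTv t a → ∀ u ∈ perp π D t, u ∈ fixKer π x → u = 1) → (stdHerm hF 5).h a a = 0 →
      ∀ t', IsTv t' b → ∀ u ∈ perp π D t', u ∈ fixKer π x → u = 1 := by
    intro a b ha hb hab IH haa t' ht' u hu hux
    have ha0 : a ≠ 0 := fun e => hab (by rw [e, HermSpace.zero_left])
    obtain ⟨t, ht⟩ := exists_isTv h2 ha0 haa
    have e : (t * t').1.1 a = (stdHerm hF 5).h a b • b := by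
      show t.1.1 (t'.1.1 a) = _
      rw [ht'.2.2, ht.2.2, HermSpace.add_left, HermSpace.smul_left, ht.2.1, zero_add,
        show (stdHerm hF 5).h b a = (stdHerm hF 5).conj ((stdHerm hF 5).h a b) from
          ((stdHerm hF 5).symm' a b).symm,
        norm_eq_one (hfix_five hF) hab, one_smul, add_right_comm, vec_two h2, zero_add]
    have hk : t * t' * t * (t * t')⁻¹ = t' := ht.conj_eq ht' e
    have hxk : Commute (t * t')⁻¹ x :=
      (((hx.commute_tv ht (by rw [h_ev_right, ha])).mul_right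
        (hx.commute_tv ht' (by rw [h_ev_right, hb]))).symm).inv_left
    obtain ⟨g, hg⟩ := P.surj (t * t')⁻¹
    have h1 := IH t ht (g * u * g⁻¹) (by
      have := P.perp_conj hu g
      have e2 : π g * t' * (π g)⁻¹ = t := by
        rw [hg, inv_inv]
        calc (t * t')⁻¹ * t' * (t * t') = (t * t')⁻¹ * (t * t' * t * (t * t')⁻¹) * (t * t') := by rw [hk]
          _ = t := by group
      rwa [e2] at this) (by
      have := P.fixKer_conj hux g
      rwa [hg, hxk.eq, mul_inv_cancel_right] at this)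
    exact conj_eq_one_iff.1 h1
  have base : ∀ t, IsTv t (pv : Fin 5 → F) → ∀ u ∈ perp π D t, u ∈ fixKer π x → u = 1 :=
    fun t ht u hu hux => perp_fixed_base hw P hmem hx ht hu hux
  by_cases h0 : (stdHerm hF 5).h pv v = 0
  swap
  · exact step (by simp) hv h0 base (pv_iso hF) t ht u hu hux
  have hq1 : (stdHerm hF 5).h (ev 0 + w • ev 1) (ev 0 + w • ev 1) = 0 :=
    add_isotropic (w_cube hw) (h_ev_self hF 0) (h_ev_self hF 1) (by rw [h_ev_right]; simp)
  have hq2 : (stdHerm hF 5).h (ev 0 + ev 2) (ev 0 + ev 2) = 0 := by rw [h_five]; simp; grind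
  by_cases h1 : (stdHerm hF 5).h (ev 0 + w • ev 1) v = 0
  swap
  · exact step (by simp) hv h1 (step (by simp) (by simp)
      (by rw [h_five]; simp; grind) base (pv_iso hF)) hq1 t ht u hu hux
  by_cases h2' : (stdHerm hF 5).h (ev 0 + ev 2) v = 0
  swap
  · exact step (by simp) hv h2' (step (by simp) (by simp)
      (by rw [h_five]; simp) base (pv_iso hF)) hq2 t ht u hu hux
  exfalso
  have g0 := HermSpace.h_comm_zero _ h0
  have g1 := HermSpace.h_comm_zero _ h1
  have g2 := HermSpace.h_comm_zero _ h2'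
  rw [h_five] at g0 g1 g2
  simp at g0 g1 g2
  have hv2 := ht.2.1
  rw [h_five] at hv2
  have e1 : v 1 = 0 := by grind
  have e0 : v 0 = 0 := by grind
  have e2 : v 2 = 0 := by grind
  have e3 : v 3 = 0 := by
    simp [e0, e1, e2, hv] at hv2
    exact hv2
  exact ht.1 (funext fun i => by fin_cases i <;> assumption)

include hw P hmem in
theorem fixKer_tv {x : SFive hF} (hx : IsPr hF w x (ev 4)) {c : G} (hc : c ∈ fixKer π x)
    {v : Fin 5 → F} {t : SFive hF} (ht : IsTv t v) (hv : v 4 = 0) : c ∈ fixKer π t := by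
  obtain ⟨d, hd, rfl⟩ := hmem t v ht
  obtain ⟨hk, -⟩ := mem_fixKer.1 hc
  have hkd : π (d * c * d⁻¹) = 1 := by simp [hk]
  have h2 : d * c * d⁻¹ ∈ fixKer π x := by
    have := P.fixKer_conj hc d
    rwa [← (hx.commute_tv ht (by rw [h_ev_right, hv])).eq, mul_inv_cancel_right] at this
  have h1 := perp_fixed hw P hmem hx ht hv (P.mul_conj_mem_perp hd hk) (mul_mem hc h2)
  refine P.mem_fixKer_of hk rfl (mul_inv_eq_iff_eq_mul.1 ?_)
  rw [mul_eq_one_iff_inv_eq, P.ker_inv hk] at h1
  exact h1.symm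

include hw P hmem htv in
theorem fixKer_pr_four {x : SFive hF} (hx : IsPr hF w x (ev 4)) : fixKer π x = ⊥ := by
  have h2 := two_zero hF
  have hw0 := w_ne hw
  rw [eq_bot_iff]
  intro c hc
  rw [mem_bot]
  obtain ⟨hk, -⟩ := mem_fixKer.1 hc
  choose xs hxs using fun i : Fin 5 => exists_isPr hw (h_ev_self hF i)
  have ho : ∀ i j : Fin 5, i ≠ j → (stdHerm hF 5).h (ev i : Fin 5 → F) (ev j) = 0 := fun i j h => by
    rw [h_ev_right]; simp [h.symm]
  have pair : ∀ (i j : Fin 5), i ≠ j → i ≠ 4 → j ≠ 4 → ∀ t t' : SFive hF,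
      IsTv t (ev i + ev j) → IsTv t' (ev i + w • ev j) → c ∈ fixKer π (t * t') :=
    fun i j _ hi hj t t' ht ht' => P.fixKer_mul
      (fixKer_tv hw P hmem hx hc ht (by simp [hi.symm, hj.symm]))
      (fixKer_tv hw P hmem hx hc ht' (by simp [hi.symm, hj.symm]))
  obtain ⟨a, a', ha, ha'⟩ := exists_pair hw (h_ev_self hF 0) (h_ev_self hF 1) (ho 0 1 (by decide))
  obtain ⟨b, b', hb, hb'⟩ := exists_pair hw (h_ev_self hF 0) (h_ev_self hF 2) (ho 0 2 (by decide))
  obtain ⟨e, e', he, he'⟩ := exists_pair hw (h_ev_self hF 0) (h_ev_self hF 3) (ho 0 3 (by decide))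
  have hid : x * x * (a * a' * (b * b') * (e * e')) = xs 0 := by
    refine ker_ext fun y => ?_
    show x.1.1 (x.1.1 (a.1.1 (a'.1.1 (b.1.1 (b'.1.1 (e.1.1 (e'.1.1 y))))))) = (xs 0).1.1 y
    funext i
    rw [hx.apply_ev, hx.apply_ev, (hxs 0).apply_ev]
    simp only [ha.2.2, ha'.2.2, hb.2.2, hb'.2.2, he.2.2, he'.2.2, h_five, Pi.add_apply,
      Pi.smul_apply, smul_eq_mul]
    fin_cases i <;> simp <;> grind
  have c0 : c ∈ fixKer π (xs 0) := by
    rw [← hid]
    exact P.fixKer_mul (P.fixKer_mul hc hc) (P.fixKer_mul (P.fixKer_mul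
      (pair 0 1 (by decide) (by decide) (by decide) a a' ha ha')
      (pair 0 2 (by decide) (by decide) (by decide) b b' hb hb'))
      (pair 0 3 (by decide) (by decide) (by decide) e e' he he'))
  have hci : ∀ i, c ∈ fixKer π (xs i) := by
    intro i
    by_cases h4 : i = 4
    · subst h4; rwa [(hxs 4).unique hx]
    by_cases h0 : i = 0
    · subst h0; exact c0
    obtain ⟨t, t', ht, ht'⟩ := exists_pair hw (h_ev_self hF i) (h_ev_self hF 0) (ho i 0 h0)
    rw [← tv_pair hw ht ht' (hxs i) (hxs 0) (ho i 0 h0)]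
    exact P.fixKer_mul (pair i 0 h0 h4 (by decide) t t' ht ht') c0
  have hall : ∀ d ∈ D, Commute d c := by
    intro d hd
    obtain ⟨v, hv⟩ := htv d hd
    obtain ⟨i, hi⟩ : ∃ i, v i = 0 := by
      by_contra hcon
      push Not at hcon
      have e := hv.2.1
      rw [h_five] at e
      have hn : ∀ j, v j * v j ^ 2 = 1 := fun j => by
        have := norm_eq_one (H := stdHerm hF 5) (hfix_five hF) (hcon j)
        rwa [stdHerm_conj] at this
      rw [hn, hn, hn, hn, hn] at e
      exact one_ne_zero (α := F) (by linear_combination e - 2 * h2)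
    by_cases h4 : i = 4
    · subst h4; exact (mem_fixKer.1 (fixKer_tv hw P hmem hx hc hv hi)).2 d rfl
    have hki : (stdHerm hF 5).h (ev i + (1 : F) • ev 4) (ev i + (1 : F) • ev 4) = 0 :=
      add_isotropic (by ring) (h_ev_self hF i) (h_ev_self hF 4) (ho i 4 h4)
    rw [one_smul] at hki
    obtain ⟨k, hkm, htk⟩ := exists_member hmem
      (fun e => by have := congrFun e i; simp [h4] at this) hki
    have hkx : π k * xs i * (π k)⁻¹ = x := by
      have h := (hxs i).conj (π k)
      rw [show (π k).1.1 (ev i) = ev 4 from ?_] at h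
      · exact h.unique hx
      rw [htk.2.2]
      funext j
      simp only [h_five]
      fin_cases i <;> fin_cases j <;> simp at h4 ⊢ <;> grind
    have hc' : k * c * k⁻¹ ∈ fixKer π x := hkx ▸ P.fixKer_conj (hci i) k
    have hv' := hv.conj (π k)
    have hv4 : (π k).1.1 v 4 = 0 := by
      rw [htk.2.2]
      simp only [h_five, Pi.add_apply, Pi.smul_apply, smul_eq_mul]
      fin_cases i <;> simp at h4 hi ⊢ <;> grind
    rw [← map_inv, ← map_mul, ← map_mul] at hv'
    exact (Commute.conj_iff k).1 ((mem_fixKer.1 (fixKer_tv hw P hmem hx hc' hv' hv4)).2 _ rfl)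
  have hcent : c ∈ center G := mem_center_iff.2 fun g => by
    have h : closure D ≤ centralizer {c} :=
      (closure_le _).2 fun d hd => mem_centralizer_singleton_iff.2 (hall d hd).eq
    rw [P.cls.2.2] at h
    exact mem_centralizer_singleton_iff.1 (h (mem_top g))
  rwa [P.centre, mem_bot] at hcent

include hw P hmem htv in
/-- All lifts of pseudo-reflections are fixed-point-free on the kernel. -/
theorem fixKer_pr {x : SFive hF} {f : Fin 5 → F} (hx : IsPr hF w x f) : fixKer π x = ⊥ := by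
  obtain ⟨x4, hx4⟩ := exists_isPr hw (h_ev_self hF 4)
  obtain ⟨k, hk⟩ := exists_map_norm_one (H := stdHerm hF 5) hx.1 (h_ev_self hF 4)
  obtain ⟨s, hs⟩ : ∃ s : SFive hF, ∃ b : F, b * b * b = 1 ∧ s.1.1 f = b • ev 4 := exists_special hw k hk
  obtain ⟨b, hb, hsf⟩ := hs
  obtain ⟨g, hg⟩ := P.surj s
  rw [eq_bot_iff]
  intro c hc
  have h := P.fixKer_conj hc g
  have hb0 : b ≠ 0 := fun e => by simp [e] at hb
  have hx' := hx.conj s
  rw [hg] at h
  have e : s * x * s⁻¹ = x4 := by
    refine IsPr.unique ⟨h_ev_self hF 4, fun y => ?_⟩ hx4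
    rw [hx'.2, hsf, HermSpace.smul_right, smul_smul, conj_five]
    congr 2
    linear_combination (stdHerm hF 5).h y (ev 4) * hb
  rw [e, fixKer_pr_four hw P htv hmem hx4, mem_bot] at h
  rw [mem_bot]
  exact conj_eq_one_iff.1 h

end CfsgLib.ThreeTranspUnitary
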