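import Cfsg.Agent.Lib.Classical.Herm.Std

/-!
Transvections of unitary groups over the field with four elements.
-/

set_option autoImplicit false
set_option linter.unusedSectionVars false

namespace CfsgLib.ThreeTranspUnitary

open Module CfsgLib.Classical.Herm HermSpace

variable {F V : Type*} [Field F] [AddCommGroup V] [Module F V] [FiniteDimensional F V]
variable {H : HermSpace F V}

/-- `g` is the transvection at the isotropic vector `v`. -/
def IsTv (g : (detHom H).ker) (v : V) : Prop :=
  v ≠ 0 ∧ H.h v v = 0 ∧ ∀ x, g.1.1 x = x + H.h x v • v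

theorem ker_ext {g g' : (detHom H).ker} (w : ∀ x, g.1.1 x = g'.1.1 x) : g = g' :=
  Subtype.ext (unit_ext w)

theorem IsTv.unique {g g' : (detHom H).ker} {v : V} (a : IsTv g v) (b : IsTv g' v) : g = g' :=
  ker_ext fun x => by rw [a.2.2, b.2.2]

theorem IsTv.conj {g : (detHom H).ker} {v : V} (a : IsTv g v) (k : (detHom H).ker) :
    IsTv (k * g * k⁻¹) (k.1.1 v) := by
  refine ⟨unit_ne_zero k.1 a.1, by rw [unit_h]; exact a.2.1, fun x => ?_⟩
  show k.1.1 (g.1.1 ((k.1⁻¹).1 x)) = _
  rw [a.2.2, map_add, map_smul, self_apply_inv]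
  congr 2
  conv_rhs => rw [← self_apply_inv k.1 x, unit_h]

theorem IsTv.commute {g g' : (detHom H).ker} {v w : V} (a : IsTv g v) (b : IsTv g' w)
    (h : H.h v w = 0) : Commute g g' := by
  refine ker_ext fun x => ?_
  show g.1.1 (g'.1.1 x) = g'.1.1 (g.1.1 x)
  rw [a.2.2, b.2.2, b.2.2, a.2.2]
  simp only [H.add_left, H.smul_left, h, H.h_comm_zero h, mul_zero, add_zero]
  abel

variable (hfix : ∀ c : F, H.conj c = c → c ≠ 0 → c = 1) (h2 : (2 : F) = 0)

include hfix in
theorem norm_eq_one {b : F} (hb : b ≠ 0) : b * H.conj b = 1 :=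
  hfix _ (by rw [map_mul, H.conj_conj, mul_comm]) (mul_ne_zero hb (H.conj_ne_zero hb))

include h2 in
theorem vec_two (v : V) : v + v = 0 := by
  rw [← two_smul F v, h2, zero_smul]

include hfix in
theorem IsTv.smul {g : (detHom H).ker} {v : V} {b : F} (a : IsTv g (b • v)) : IsTv g v := by
  have hb : b ≠ 0 := fun h => a.1 (by rw [h, zero_smul])
  refine ⟨fun h => a.1 (by rw [h, smul_zero]), ?_, fun x => ?_⟩
  · have := a.2.1
    rwa [H.smul_left, H.smul_right, ← mul_assoc, norm_eq_one hfix hb, one_mul] at this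
  · rw [a.2.2, H.smul_right, smul_smul]
    congr 2
    linear_combination H.h x v * norm_eq_one hfix hb

include h2 in
theorem exists_isTv {v : V} (h0 : v ≠ 0) (hv : H.h v v = 0) : ∃ g : (detHom H).ker, IsTv g v := by
  have hc : ShearCond H v 1 := by
    unfold ShearCond
    rw [map_one, hv]
    linear_combination h2
  refine ⟨⟨shear H v 1 hc, ?_⟩, h0, hv, fun x => ?_⟩
  · rw [MonoidHom.mem_ker]
    refine Units.ext ?_
    rw [detHom_shear, hv, mul_zero, add_zero, Units.val_one]
  · show (shear H v 1 hc).1 x = _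
    rw [shear_apply, one_mul]

include hfix h2 in
/-- Transvections at non-perpendicular points are conjugate. -/
theorem IsTv.exists_conj {g g' : (detHom H).ker} {v w : V} (a : IsTv g v) (b : IsTv g' w)
    (h : H.h v w ≠ 0) : ∃ k, k * g * k⁻¹ = g' := by
  refine ⟨g * g', IsTv.unique (IsTv.smul hfix (b := H.h v w) ?_) b⟩
  have e : (g * g').1.1 v = H.h v w • w := by
    show g.1.1 (g'.1.1 v) = _
    rw [b.2.2, a.2.2, H.add_left, H.smul_left, a.2.1, zero_add,
      show H.h w v = H.conj (H.h v w) from (H.symm' v w).symm, norm_eq_one hfix h, one_smul,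
      add_right_comm, vec_two h2, zero_add]
  rw [← e]
  exact a.conj (g * g')

include hfix h2 in
/-- An isotropic solution of prescribed inner products. -/
theorem exists_isotropic {ι : Type*} [Finite ι] (f : ι → V) (s₀ : V)
    (hK : ¬ (⨅ i, LinearMap.ker (H.form (f i))) ≤ Submodule.span F (Set.range f)) :
    ∃ s, H.h s s = 0 ∧ ∀ i, H.h s (f i) = H.h s₀ (f i) := by
  by_contra hcon
  push Not at hcon
  set K := ⨅ i, LinearMap.ker (H.form (f i)) with hKdef
  have hmem : ∀ y ∈ K, ∀ i, H.h y (f i) = 0 := fun y hy i => by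
    simpa using (Submodule.mem_iInf _).1 hy i
  have hone : ∀ y ∈ K, H.h (s₀ + y) (s₀ + y) = 1 := by
    intro y hy
    refine hfix _ (H.conj_diag _) fun h0 => ?_
    obtain ⟨i, hi⟩ := hcon _ h0
    exact hi (by rw [H.add_left, hmem y hy i, add_zero])
  have hK0 : ∀ y ∈ K, ∀ z ∈ K, H.h y z = 0 := by
    intro y hy z hz
    have htr : ∀ a : F, a * H.h y z + H.conj (a * H.h y z) = 0 := by
      intro a
      have ha := Submodule.smul_mem K a hy
      have e1 := hone _ ha
      have e2 := hone _ hz
      have e3 := hone _ (Submodule.add_mem K ha hz)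
      have e0 := hone 0 (Submodule.zero_mem K)
      simp only [H.add_left, H.add_right, H.smul_left, H.smul_right, H.zero_left, H.zero_right,
        add_zero] at e1 e2 e3 e0
      rw [map_mul, H.symm']
      linear_combination e3 - e1 - e2 + e0
    by_contra hne
    obtain ⟨t, ht⟩ := H.exists_trace_one
    have := htr (t / H.h y z)
    rw [div_mul_cancel₀ _ hne, ht] at this
    exact one_ne_zero this
  refine hK fun y hy => ?_
  have : Fintype ι := Fintype.ofFinite ι
  have hsp : H.form y ∈ Submodule.span F (Set.range fun i => H.form (f i)) := by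
    refine mem_span_of_iInf_ker_le_ker fun z hz => ?_
    simpa using hK0 z hz y hy
  obtain ⟨c, hc⟩ := (Submodule.mem_span_range_iff_exists_fun F).1
    (show H.form y ∈ Submodule.span F (Set.range fun i => H.form (f i)) from hsp)
  have hy' : y = ∑ i, H.conj (c i) • f i := by
    rw [← sub_eq_zero]
    refine H.nondeg _ fun x => H.h_comm_zero ?_
    have hx := LinearMap.congr_fun hc x
    simp only [LinearMap.coe_sum, Finset.sum_apply, LinearMap.smul_apply, form_apply, smul_eq_mul] at hx
    have hsum : H.h x (∑ i, H.conj (c i) • f i) = ∑ i, c i * H.h x (f i) := by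
      induction (Finset.univ : Finset ι) using Finset.cons_induction with
      | empty => simp [H.zero_right]
      | cons i s hi ih => rw [Finset.sum_cons, Finset.sum_cons, H.add_right, H.smul_right, H.conj_conj, ih]
    rw [H.sub_right, hsum, hx, sub_self]
  rw [hy']
  exact Submodule.sum_mem _ fun i _ => Submodule.smul_mem _ _ (Submodule.subset_span ⟨i, rfl⟩)

theorem finrank_le_perp {ι : Type*} [Fintype ι] (f : ι → V) :
    finrank F V ≤ finrank F (⨅ i, LinearMap.ker (H.form (f i)) : Submodule F V) + Fintype.card ι := by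
  have h := (LinearMap.pi fun i => H.form (f i)).finrank_range_add_finrank_ker
  rw [LinearMap.ker_pi] at h
  have h1 := Submodule.finrank_le (LinearMap.range (LinearMap.pi fun i => H.form (f i)))
  rw [Module.finrank_fintype_fun_eq_card] at h1
  omega

variable (hd : 5 ≤ finrank F V)

include hfix h2 hd in
theorem exists_iso_both {p q : V} (hq : q ≠ 0) (hind : ∀ c : F, c • q ≠ p) :
    ∃ r, r ≠ 0 ∧ H.h r r = 0 ∧ H.h r p = 1 ∧ H.h r q = 1 := by
  obtain ⟨s₀, ha, hb⟩ := H.exists_h_pair hq hind 1 1
  obtain ⟨s, hs, h⟩ := exists_isotropic hfix h2 ![p, q] s₀ (fun hle => by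
    have h1 := finrank_le_perp (H := H) ![p, q]
    have h3 := Submodule.finrank_mono hle
    have h4 := finrank_range_le_card (R := F) ![p, q]
    rw [Set.finrank] at h4
    simp only [Fintype.card_fin] at h1 h4
    omega)
  have e1 : H.h s p = 1 := by simpa [ha] using h 0
  have e2 : H.h s q = 1 := by simpa [hb] using h 1
  exact ⟨s, fun h0 => by rw [h0, H.zero_left] at e1; exact zero_ne_one e1, hs, e1, e2⟩

include hfix h2 hd in
theorem exists_iso_triple {p q r : V} (hp : H.h p p = 0) (hpq : H.h p q ≠ 0)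
    (hr : r ∉ Submodule.span F ({p, q} : Set V)) (b : F) :
    ∃ s, s ≠ 0 ∧ H.h s s = 0 ∧ H.h s p = 0 ∧ H.h s r = 1 ∧ H.h s q = b := by
  obtain ⟨z, hzp, hzq, hzr⟩ : ∃ z, H.h z p = 0 ∧ H.h z q = 0 ∧ H.h z r ≠ 0 := by
    by_contra hcon
    push Not at hcon
    apply hr
    have hsp : H.form r ∈ Submodule.span F (Set.range fun i => H.form ((![p, q] : Fin 2 → V) i)) := by
      refine mem_span_of_iInf_ker_le_ker fun z hz => ?_
      simp only [Submodule.mem_iInf, LinearMap.mem_ker, form_apply] at hz
      simpa using hcon z (by simpa using hz 0) (by simpa using hz 1)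
    obtain ⟨c, hc⟩ := (Submodule.mem_span_range_iff_exists_fun F).1 hsp
    have : r = H.conj (c 0) • p + H.conj (c 1) • q := by
      rw [← sub_eq_zero]
      refine H.nondeg _ fun x => H.h_comm_zero ?_
      have hx := LinearMap.congr_fun hc x
      simp [Fin.sum_univ_two] at hx
      rw [H.sub_right, H.add_right, H.smul_right, H.smul_right, H.conj_conj, H.conj_conj, ← hx]
      ring
    rw [this]
    exact Submodule.add_mem _ (Submodule.smul_mem _ _ (Submodule.subset_span (by simp)))
      (Submodule.smul_mem _ _ (Submodule.subset_span (by simp)))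
  set y := (b / H.h p q) • p with hy
  set s₀ := y + ((1 - H.h y r) / H.h z r) • z with hs₀
  have hp0 : H.h s₀ p = 0 := by
    rw [hs₀, hy, H.add_left, H.smul_left, H.smul_left, hp, hzp, mul_zero, mul_zero, add_zero]
  have hq0 : H.h s₀ q = b := by
    rw [hs₀, H.add_left, hy, H.smul_left, H.smul_left, hzq, div_mul_cancel₀ _ hpq]; ring
  have hr0 : H.h s₀ r = 1 := by
    rw [hs₀, H.add_left, hy, H.smul_left, H.smul_left, div_mul_cancel₀ _ hzr]; ring
  obtain ⟨s, hs, h⟩ := exists_isotropic hfix h2 ![p, q, r] s₀ (fun hle => by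
    have h1 := finrank_le_perp (H := H) ![p, q, r]
    have hdis : (⨅ i, LinearMap.ker (H.form (![p, q, r] i))) ⊓ Submodule.span F ({p, q} : Set V) = ⊥ := by
      rw [eq_bot_iff]
      rintro w ⟨hw1, hw2⟩
      obtain ⟨α, β, rfl⟩ := Submodule.mem_span_pair.1 hw2
      have e := (Submodule.mem_iInf _).1 hw1 0
      simp only [Matrix.cons_val_zero, LinearMap.mem_ker, form_apply, H.add_left, H.smul_left, hp,
        mul_zero, zero_add] at e
      have hb0 : β = 0 := (mul_eq_zero.1 e).resolve_right fun h => hpq (H.h_comm_zero h)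
      subst hb0
      have e2 := (Submodule.mem_iInf _).1 hw1 1
      simp only [Matrix.cons_val_one, Matrix.cons_val_zero, LinearMap.mem_ker, form_apply, H.add_left,
        H.smul_left, zero_mul, add_zero] at e2
      simp [(mul_eq_zero.1 e2).resolve_right hpq]
    have h3 := Submodule.finrank_sup_add_finrank_inf_eq
      (⨅ i, LinearMap.ker (H.form (![p, q, r] i))) (Submodule.span F ({p, q} : Set V))
    rw [hdis, finrank_bot, add_zero] at h3
    have h4 : finrank F ((⨅ i, LinearMap.ker (H.form (![p, q, r] i))) ⊔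
        Submodule.span F ({p, q} : Set V) : Submodule F V) ≤ 3 := by
      refine (Submodule.finrank_mono (sup_le hle (Submodule.span_mono ?_))).trans
        ((finrank_range_le_card (R := F) ![p, q, r]).trans (by simp))
      rintro _ (rfl | rfl)
      · exact ⟨0, rfl⟩
      · exact ⟨1, rfl⟩
    have hli : LinearIndependent F ![p, q] := by
      rw [LinearIndependent.pair_iff]
      intro α β h0
      have e := congrArg (fun v => H.h v p) h0
      simp only [H.add_left, H.smul_left, hp, H.zero_left, mul_zero, zero_add] at e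
      have hb0 : β = 0 := (mul_eq_zero.1 e).resolve_right fun h => hpq (H.h_comm_zero h)
      subst hb0
      have e2 := congrArg (fun v => H.h v q) h0
      simp only [H.add_left, H.smul_left, H.zero_left, zero_mul, add_zero] at e2
      exact ⟨(mul_eq_zero.1 e2).resolve_right hpq, rfl⟩
    have h5 := finrank_span_eq_card hli
    rw [Matrix.range_cons_cons_empty] at h5
    simp only [Fintype.card_fin] at h1 h5
    omega)
  have e1 : H.h s p = 0 := by simpa [hp0] using h 0
  have e2 : H.h s q = b := by simpa [hq0] using h 1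
  have e3 : H.h s r = 1 := by simpa [hr0] using h 2
  exact ⟨s, fun h0 => by rw [h0, H.zero_left] at e3; exact zero_ne_one e3, hs, e1, e3, e2⟩

include hfix h2 hd in
/-- A conjugation invariant set with one transvection contains them all. -/
theorem isTv_mem {E : Set (detHom H).ker} (hE : ∀ k, ∀ e ∈ E, k * e * k⁻¹ ∈ E)
    {g g' : (detHom H).ker} {v w : V} (a : IsTv g v) (b : IsTv g' w) (hg : g ∈ E) : g' ∈ E := by
  by_cases hind : ∀ c : F, c • w ≠ v
  · obtain ⟨r, hr0, hr, hrv, hrw⟩ := exists_iso_both hfix h2 hd b.1 hind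
    obtain ⟨m, hm⟩ := exists_isTv h2 hr0 hr
    obtain ⟨k, hk⟩ := a.exists_conj hfix h2 hm (by rw [H.h_comm_one hrv]; exact one_ne_zero)
    obtain ⟨k', hk'⟩ := hm.exists_conj hfix h2 b (by rw [hrw]; exact one_ne_zero)
    rw [← hk', ← hk]
    exact hE _ _ (hE _ _ hg)
  · push Not at hind
    obtain ⟨c, hc⟩ := hind
    rw [← hc] at a
    rwa [← (a.smul hfix).unique b]

include hfix h2 hd in
/-- The transvections commuting with one of two non-perpendicular ones generate all. -/
theorem isTv_mem_closure {g g' : (detHom H).ker} {p q : V} (a : IsTv g p) (b : IsTv g' q)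
    (hpq : H.h p q ≠ 0) {T : Set (detHom H).ker}
    (hT : ∀ t r, IsTv t r → (H.h r p = 0 ∨ H.h r q = 0) → t ∈ T)
    {t : (detHom H).ker} {r : V} (hr : IsTv t r) : t ∈ Subgroup.closure T := by
  by_cases h : H.h r p = 0 ∨ H.h r q = 0
  · exact Subgroup.subset_closure (hT t r hr h)
  push Not at h
  by_cases hsp : r ∈ Submodule.span F ({p, q} : Set V)
  · obtain ⟨α, β, hab⟩ := Submodule.mem_span_pair.1 hsp
    have hq0 := b.2.1
    have hp0 := a.2.1
    have e := hr.2.1
    rw [← hab] at e
    simp only [H.add_left, H.add_right, H.smul_left, H.smul_right, hp0, hq0] at e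
    have hc : α * H.conj β * H.h p q = 1 := by
      refine hfix _ ?_ ?_
      · rw [map_mul, map_mul, H.conj_conj, H.symm']
        linear_combination e - α * H.conj β * H.h p q * h2
      · refine mul_ne_zero (mul_ne_zero ?_ (H.conj_ne_zero ?_)) hpq
        · rintro rfl
          exact h.2 (by rw [← hab, H.add_left, H.smul_left, H.smul_left, hq0]; ring)
        · rintro rfl
          exact h.1 (by rw [← hab, H.add_left, H.smul_left, H.smul_left, hp0]; ring)
    have hβ : β ≠ 0 := by
      rintro rfl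
      exact h.1 (by rw [← hab, H.add_left, H.smul_left, H.smul_left, hp0]; ring)
    have hgp : g ∈ T := hT g p a (Or.inl hp0)
    have hgq : g' ∈ T := hT g' q b (Or.inr hq0)
    have e' : r = β • g.1.1 q := by
      rw [a.2.2, ← hab, smul_add, smul_smul, add_comm]
      congr 2
      rw [← H.symm' p q]
      linear_combination β * H.conj (H.h p q) * hc - α * (H.conj β * β) * norm_eq_one hfix hpq
        - α * norm_eq_one hfix hβ
    rw [e'] at hr
    rw [(hr.smul hfix).unique (b.conj g)]
    exact mul_mem (mul_mem (Subgroup.subset_closure hgp) (Subgroup.subset_closure hgq))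
      (inv_mem (Subgroup.subset_closure hgp))
  obtain ⟨s, hs0, hs, hsp', hsr, hsq⟩ := exists_iso_triple hfix h2 hd a.2.1 hpq hsp (H.h r q)
  obtain ⟨m, hm⟩ := exists_isTv h2 hs0 hs
  set r' := r + s with hr'
  have hrs : H.h r s = 1 := H.h_comm_one hsr
  have hr'0 : r' ≠ 0 := fun h0 => by
    have := congrArg (fun v => H.h v s) h0
    simp only [hr', H.add_left, H.zero_left, hrs, hs, add_zero] at this
    exact one_ne_zero this
  have hr'i : H.h r' r' = 0 := by
    rw [hr', H.add_left, H.add_right, H.add_right, hr.2.1, hrs, hsr, hs]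
    linear_combination h2
  obtain ⟨m', hm'⟩ := exists_isTv h2 hr'0 hr'i
  have hq' : H.h r' q = 0 := by
    rw [hr', H.add_left, hsq]; linear_combination H.h r q * h2
  have hmem : m.1.1 r' = r := by
    rw [hm.2.2, hr', H.add_left, hrs, hs, add_zero, one_smul, add_assoc, vec_two h2, add_zero]
  have : IsTv (m * m' * m⁻¹) r := hmem ▸ hm'.conj m
  rw [hr.unique this]
  exact mul_mem (mul_mem (Subgroup.subset_closure (hT m s hm (Or.inl hsp')))
    (Subgroup.subset_closure (hT m' r' hm' (Or.inr hq')))) (inv_mem (Subgroup.subset_closure (hT m s hm (Or.inl hsp'))))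

include hfix h2 in
/-- An involution which is not a transvection has a conjugate with product of order above three. -/
theorem isTv_of_order {g : (detHom H).ker} (hg2 : g * g = 1) (hg1 : g ≠ 1)
    (h : ∀ k, (g * (k * g * k⁻¹)) ^ 2 = 1 ∨ (g * (k * g * k⁻¹)) ^ 3 = 1) : ∃ v, IsTv g v := by
  classical
  set u : V →ₗ[F] V := (g.1.1 : V →ₗ[F] V) with hu
  have huu : ∀ x, u (u x) = x := fun x => by
    have : (g * g).1.1 x = x := by rw [hg2]; rfl
    exact this
  set N : V →ₗ[F] V := u + LinearMap.id with hN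
  have hNa : ∀ x, N x = u x + x := fun x => rfl
  have hadj : ∀ x y, H.h (u x) y = H.h x (u y) := fun x y => by
    conv_lhs => rw [← huu y]
    exact unit_h g.1 x (u y)
  have hfixN : ∀ x, u (N x) = N x := fun x => by rw [hNa, map_add, huu, add_comm]
  set φ : V → V → F := fun x y => H.h (N x) y with hφ
  have hNadj : ∀ x y, H.h (N x) y = H.h x (N y) := fun x y => by
    rw [hNa, hNa, H.add_left, H.add_right, hadj]
  have hsymm : ∀ x y, H.conj (φ x y) = φ y x := fun x y => by
    rw [hφ]; simp only; rw [H.symm', ← hNadj]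
  have hNN : ∀ x y, H.h (N x) (N y) = 0 := fun x y => by
    rw [← hNadj, hNa (N x), hfixN, vec_two h2, H.zero_left]
  have hne : ∃ s, φ s s ≠ 0 := by
    by_contra hcon
    push Not at hcon
    apply hg1
    refine ker_ext fun x => ?_
    have : N x = 0 := H.nondeg _ fun y => by
      by_contra hne
      obtain ⟨t, ht⟩ := H.exists_trace_one
      have h0 := hcon ((t / φ x y) • x + y)
      have hx0 : H.h (N x) x = 0 := hcon x
      have hy0 : H.h (N y) y = 0 := hcon y
      have hyx : H.h (N y) x = H.conj (φ x y) := (hsymm x y).symm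
      simp only [hφ, map_add, map_smul, H.add_left, H.add_right, H.smul_left, H.smul_right, hx0, hy0,
        hyx, mul_zero, add_zero, zero_add] at h0
      rw [← map_mul, div_mul_cancel₀ _ hne] at h0
      exact one_ne_zero (α := F) (by linear_combination h0 - ht)
    rw [hNa] at this
    show u x = x
    rw [← add_zero (u x), ← vec_two h2 x, ← add_assoc, this, zero_add]
  obtain ⟨s₁, hs₁⟩ := hne
  have hs₁1 : φ s₁ s₁ = 1 := hfix _ (hsymm s₁ s₁) hs₁
  by_cases hA : ∀ x y, φ x y = φ x s₁ * φ s₁ y
  · refine ⟨N s₁, fun h0 => hs₁ ?_, hNN s₁ s₁, fun x => ?_⟩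
    · rw [hφ]; simp only; rw [h0, H.zero_left]
    · have : N x = φ x s₁ • N s₁ := sub_eq_zero.1 (H.nondeg _ fun y => by
        rw [H.sub_left, H.smul_left]
        exact sub_eq_zero.2 (hA x y))
      rw [← hNadj]
      show u x = x + H.h (N x) s₁ • N s₁
      rw [show H.h (N x) s₁ • N s₁ = N x from this.symm, hNa, add_comm x, add_assoc, vec_two h2, add_zero]
  exfalso
  push Not at hA
  obtain ⟨x, y, hxy⟩ := hA
  set P : V → V := fun x => x + φ x s₁ • s₁ with hP
  have hPs : ∀ x, φ (P x) s₁ = 0 := fun x => by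
    simp only [hφ, hP, map_add, map_smul, H.add_left, H.smul_left]
    rw [show H.h (N s₁) s₁ = 1 from hs₁1]
    linear_combination H.h (N x) s₁ * h2
  obtain ⟨s₂, hs₂p, hs₂⟩ : ∃ s, φ s s₁ = 0 ∧ φ s s ≠ 0 := by
    by_contra hcon
    push Not at hcon
    apply hxy
    have hPP : φ (P x) (P y) = 0 := by
      by_contra hne
      obtain ⟨t, ht⟩ := H.exists_trace_one
      have hc1 : H.h (N (P x)) (P x) = 0 := hcon _ (hPs x)
      have hc2 : H.h (N (P y)) (P y) = 0 := hcon _ (hPs y)
      have hc3 : H.h (N (P y)) (P x) = H.conj (φ (P x) (P y)) := (hsymm _ _).symm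
      have h0 := hcon ((t / φ (P x) (P y)) • P x + P y) (by
        simp only [hφ, map_add, map_smul, H.add_left, H.smul_left]
        rw [show H.h (N (P x)) s₁ = 0 from hPs x, show H.h (N (P y)) s₁ = 0 from hPs y]; ring)
      simp only [hφ, map_add, map_smul, H.add_left, H.add_right, H.smul_left, H.smul_right, hc1, hc2,
        hc3, mul_zero, add_zero, zero_add] at h0
      rw [← map_mul, div_mul_cancel₀ _ hne] at h0
      exact one_ne_zero (α := F) (by linear_combination h0 - ht)
    have hP' := hPs x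
    simp only [hP] at hPP
    simp only [hφ, map_add, map_smul, H.add_left, H.add_right, H.smul_left, H.smul_right] at hPP ⊢
    rw [show H.h (N s₁) s₁ = 1 from hs₁1, show H.conj (H.h (N y) s₁) = H.h (N s₁) y from hsymm y s₁] at hPP
    linear_combination hPP - H.h (N x) s₁ * H.h (N s₁) y * 2 * h2
  have hs₂1 : φ s₂ s₂ = 1 := hfix _ (hsymm s₂ s₂) hs₂
  set r₁ := N s₁ with hr₁
  set r₂ := N s₂ with hr₂
  have a11 : H.h r₁ s₁ = 1 := hs₁1
  have a22 : H.h r₂ s₂ = 1 := hs₂1
  have a21 : H.h r₂ s₁ = 0 := hs₂p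
  have a12 : H.h r₁ s₂ = 0 := by
    have := hsymm s₂ s₁
    rw [hs₂p, map_zero] at this
    exact this.symm
  have b11 : H.h r₁ r₁ = 0 := hNN _ _
  have b12 : H.h r₁ r₂ = 0 := hNN _ _
  have b21 : H.h r₂ r₁ = 0 := hNN _ _
  have b22 : H.h r₂ r₂ = 0 := hNN _ _
  obtain ⟨c, hc⟩ := H.exists_trace (c := -H.h s₁ s₁) (by rw [map_neg, H.conj_diag])
  set t₁ := s₁ + c • r₁ with ht₁
  set s₂' := s₂ + H.h s₂ t₁ • r₁ with hs₂'
  obtain ⟨c', hc'⟩ := H.exists_trace (c := -H.h s₂' s₂') (by rw [map_neg, H.conj_diag])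
  set t₂ := s₂' + c' • r₂ with ht₂
  have c11 : H.h r₁ t₁ = 1 := by rw [ht₁, H.add_right, H.smul_right, a11, b11]; ring
  have c21 : H.h r₂ t₁ = 0 := by rw [ht₁, H.add_right, H.smul_right, a21, b21]; ring
  have c12 : H.h r₁ t₂ = 0 := by
    rw [ht₂, hs₂', H.add_right, H.add_right, H.smul_right, H.smul_right, a12, b11, b12]; ring
  have c22 : H.h r₂ t₂ = 1 := by
    rw [ht₂, hs₂', H.add_right, H.add_right, H.smul_right, H.smul_right, a22, b21, b22]; ring
  have d11 : H.h t₁ r₁ = 1 := H.h_comm_one c11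
  have d12 : H.h t₁ r₂ = 0 := H.h_comm_zero c21
  have d21 : H.h t₂ r₁ = 0 := H.h_comm_zero c12
  have d22 : H.h t₂ r₂ = 1 := H.h_comm_one c22
  have e11 : H.h t₁ t₁ = 0 := by
    rw [ht₁, H.add_left, H.add_right, H.add_right, H.smul_left, H.smul_left, H.smul_right, H.smul_right,
      a11, b11, H.h_comm_one a11]
    linear_combination hc
  have f21 : H.h s₂' t₁ = 0 := by
    rw [hs₂', H.add_left, H.smul_left, c11]
    linear_combination H.h s₂ t₁ * h2
  have e21 : H.h t₂ t₁ = 0 := by rw [ht₂, H.add_left, H.smul_left, f21, c21]; ring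
  have e12 : H.h t₁ t₂ = 0 := H.h_comm_zero e21
  have f22 : H.h r₂ s₂' = 1 := by rw [hs₂', H.add_right, H.smul_right, a22, b21]; ring
  clear_value s₂'
  have e22 : H.h t₂ t₂ = 0 := by
    rw [ht₂, H.add_left, H.add_right, H.add_right, H.smul_left, H.smul_left, H.smul_right, H.smul_right,
      f22, b22, H.h_comm_one f22]
    linear_combination hc'
  have ur₁ : u r₁ = r₁ := hfixN _
  have ur₂ : u r₂ = r₂ := hfixN _
  have hus : ∀ s, u s = s + N s := fun s => by rw [hNa, add_comm s, add_assoc, vec_two h2, add_zero]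
  have ut₁ : u t₁ = t₁ + r₁ := by rw [ht₁, map_add, map_smul, ur₁, hus, ← hr₁]; abel
  have ut₂ : u t₂ = t₂ + r₂ := by
    rw [ht₂, hs₂', map_add, map_add, map_smul, map_smul, ur₁, ur₂, hus, ← hr₂]; abel
  clear_value t₁ t₂ r₁ r₂
  obtain ⟨k₁, hk₁⟩ := exists_isTv (H := H) h2 (v := r₁ + t₁ + t₂) (fun h0 => by
      have := congrArg (fun v => H.h v r₁) h0
      simp only [H.add_left, H.zero_left, b11, d11, d21] at this
      simp at this)
    (by simp only [H.add_left, H.add_right, b11, c11, c12, d11, d21, e11, e12, e21, e22]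
        linear_combination h2)
  obtain ⟨k₂, hk₂⟩ := exists_isTv (H := H) h2 (v := r₁ + r₂ + t₁) (fun h0 => by
      have := congrArg (fun v => H.h v r₁) h0
      simp only [H.add_left, H.zero_left, b11, b21, d11] at this
      simp at this)
    (by simp only [H.add_left, H.add_right, b11, b12, b21, b22, c11, c21, d11, d12, e11]
        linear_combination h2)
  set k := k₂ * k₁ with hk
  set w : V →ₗ[F] V := (k.1.1 : V →ₗ[F] V) with hw
  have hwx : ∀ x, w x = (x + H.h x (r₁ + t₁ + t₂) • (r₁ + t₁ + t₂)) +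
      H.h (x + H.h x (r₁ + t₁ + t₂) • (r₁ + t₁ + t₂)) (r₁ + r₂ + t₁) • (r₁ + r₂ + t₁) := by
    intro x
    show k₂.1.1 (k₁.1.1 x) = _
    rw [hk₂.2.2, hk₁.2.2]
  have hv2 := vec_two (V := V) h2
  have hv2' : ∀ v w : V, v + (v + w) = w := fun v w => by rw [← add_assoc, hv2, zero_add]
  have wr₁ : w r₁ = t₁ + t₂ := by
    rw [hwx]
    simp only [H.add_left, H.add_right, H.smul_left, b11, b12, b21, b22, c11, c12, c21, c22, d11,
      d12, d21, d22, e11, e12, e21, e22]
    match_scalars <;> first | ring1 | linear_combination h2 | linear_combination (2 : F) * h2 | linear_combination (3 : F) * h2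
  have wr₂ : w r₂ = t₂ := by
    rw [hwx]
    simp only [H.add_left, H.add_right, H.smul_left, b11, b12, b21, b22, c11, c12, c21, c22, d11,
      d12, d21, d22, e11, e12, e21, e22]
    match_scalars <;> first | ring1 | linear_combination h2 | linear_combination (2 : F) * h2 | linear_combination (3 : F) * h2
  have wt₁ : w t₁ = r₁ + t₂ := by
    rw [hwx]
    simp only [H.add_left, H.add_right, H.smul_left, b11, b12, b21, b22, c11, c12, c21, c22, d11,
      d12, d21, d22, e11, e12, e21, e22]
    match_scalars <;> first | ring1 | linear_combination h2 | linear_combination (2 : F) * h2 | linear_combination (3 : F) * h2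
  have wt₂ : w t₂ = r₁ + r₂ + t₁ + t₂ := by
    rw [hwx]
    simp only [H.add_left, H.add_right, H.smul_left, b11, b12, b21, b22, c11, c12, c21, c22, d11,
      d12, d21, d22, e11, e12, e21, e22]
    match_scalars <;> first | ring1 | linear_combination h2 | linear_combination (2 : F) * h2 | linear_combination (3 : F) * h2
  set u' : V →ₗ[F] V := ((k * g * k⁻¹).1.1 : V →ₗ[F] V) with hu'
  have hu'w : ∀ z, u' (w z) = w (u z) := fun z => by
    show (k * g * k⁻¹ * k).1.1 z = (k * g).1.1 z
    rw [inv_mul_cancel_right]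
  have A1 : u' t₁ = t₁ := by
    have h1 := hu'w r₁
    have h3 := hu'w r₂
    rw [ur₁, wr₁, map_add] at h1
    rw [ur₂, wr₂] at h3
    rw [h3] at h1
    exact add_right_cancel h1
  have A2 : u' t₂ = t₂ := by
    have h3 := hu'w r₂
    rwa [ur₂, wr₂] at h3
  have A3 : u' r₁ = r₁ + t₁ + t₂ := by
    have h1 := hu'w t₁
    rw [ut₁, map_add, wt₁, wr₁, map_add, A2] at h1
    rw [← add_left_inj t₂, h1]
    abel
  have A4 : u' r₂ = r₂ + t₁ := by
    have h1 := hu'w t₂
    rw [ut₂, map_add, wt₂, wr₂, map_add, map_add, map_add, A1, A2, A3] at h1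
    rw [← add_right_inj (r₁ + t₁ + t₂), ← add_left_inj t₁, ← add_left_inj t₂, h1]
    simp only [add_assoc, add_comm, add_left_comm, hv2, hv2', zero_add, add_zero]
  set T : V →ₗ[F] V := ((g * (k * g * k⁻¹)).1.1 : V →ₗ[F] V) with hT
  have hTa : ∀ z, T z = u (u' z) := fun z => rfl
  have T1 : T r₂ = r₁ + r₂ + t₁ := by rw [hTa, A4, map_add, ur₂, ut₁]; abel
  have T2 : T (r₁ + r₂ + t₁) = t₁ + t₂ := by
    rw [hTa, map_add u', map_add u', A1, A3, A4]
    simp only [map_add, ur₁, ur₂, ut₁, ut₂]
    simp only [add_assoc, add_comm, add_left_comm, hv2, hv2', zero_add, add_zero]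
  have T3 : T (t₁ + t₂) = r₁ + r₂ + t₁ + t₂ := by
    rw [hTa, map_add u', A1, A2, map_add, ut₁, ut₂]; abel
  rcases h k with h' | h'
  · have : (g * (k * g * k⁻¹) * (g * (k * g * k⁻¹))).1.1 r₂ = r₂ := by rw [← pow_two, h']; rfl
    have e : T (T r₂) = r₂ := this
    rw [T1, T2] at e
    have := congrArg (fun v => H.h v r₁) e
    simp only [H.add_left, d11, d21, b21] at this
    simp at this
  · have : (g * (k * g * k⁻¹) * (g * (k * g * k⁻¹)) * (g * (k * g * k⁻¹))).1.1 r₂ = r₂ := by
      rw [← pow_two, ← pow_succ, h']; rfl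
    have e : T (T (T r₂)) = r₂ := this
    rw [T1, T2, T3] at e
    have := congrArg (fun v => H.h v r₁) e
    simp only [H.add_left, d11, d21, b11, b21] at this
    simp at this

end CfsgLib.ThreeTranspUnitary
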