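import Cfsg.Agent.Lib.ThreeTranspUnitary.Radical
import Cfsg.Agent.Lib.PSUCover.Basic

/-!
The kernel of a 3-transposition group over a quotient without perfect double covers is elementary abelian.
-/

set_option autoImplicit false
set_option linter.style.haveILetI false

namespace CfsgLib.ThreeTranspUnitary

open Subgroup
open scoped commutatorElement

universe u v

variable {G : Type u} [Group G] [Finite G] {S : Type v} [Group S] {D : Set G} (π : G →* S)

/-- No perfect central extension with kernel of order two. -/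
def NoDoubleCover (S : Type v) [Group S] : Prop :=
  ∀ (P : Type u) [Group P] [Finite P] (ρ : P →* S), Function.Surjective ρ →
    ρ.ker ≤ center P → _root_.commutator P = ⊤ → Nat.card ρ.ker = 2 → False

/-- A perfect central extension with 2-power kernel is trivial. -/
theorem ker_eq_bot {P : Type u} [Group P] [Finite P] (hcov : NoDoubleCover.{u, v} S) (ρ : P →* S)
    (hs : Function.Surjective ρ) (hc : ρ.ker ≤ center P) (hp : _root_.commutator P = ⊤)
    (h2 : IsPGroup 2 ρ.ker) : ρ.ker = ⊥ := by
  have : Fact (Nat.Prime 2) := ⟨Nat.prime_two⟩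
  by_contra hne
  obtain ⟨k, hk⟩ := h2.exists_card_eq
  have hk0 : k ≠ 0 := fun h => hne (Subgroup.card_eq_one.1 (by rw [hk, h, pow_zero]))
  obtain ⟨M, hM⟩ := Sylow.exists_subgroup_card_pow_prime (G := ρ.ker) 2 (n := k - 1)
    (hk ▸ pow_dvd_pow 2 (Nat.sub_le k 1))
  set M' : Subgroup P := M.map ρ.ker.subtype with hM'
  have hle : M' ≤ ρ.ker := map_subtype_le M
  have : M'.Normal := ⟨fun n hn g => by
    rwa [mem_center_iff.1 (hc (hle hn)) g, mul_inv_cancel_right]⟩
  let ρ' : P ⧸ M' →* S := QuotientGroup.lift M' ρ hle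
  have hs' : Function.Surjective ρ' := fun s => by
    obtain ⟨p, hp⟩ := hs s; exact ⟨(p : P ⧸ M'), hp⟩
  have : Finite S := Finite.of_surjective ρ hs
  refine hcov (P ⧸ M') ρ' hs' ?_ ?_ ?_
  · intro z hz
    induction z using QuotientGroup.induction_on with
    | H a =>
      rw [mem_center_iff]
      intro w
      induction w using QuotientGroup.induction_on with
      | H b => exact congrArg _ (mem_center_iff.1 (hc (show ρ a = 1 from hz)) b)
  · have h := map_commutator (⊤ : Subgroup P) ⊤ (QuotientGroup.mk' M')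
    rw [← _root_.commutator_def, hp, map_top_of_surjective _ (QuotientGroup.mk'_surjective M'),
      ← _root_.commutator_def] at h
    exact h.symm
  · have h1 := ρ.ker.card_mul_index
    have h1' := ρ'.ker.card_mul_index
    rw [index_ker, MonoidHom.range_eq_top.2 hs, card_top] at h1
    rw [index_ker, MonoidHom.range_eq_top.2 hs', card_top] at h1'
    have h3 := M'.card_eq_card_quotient_mul_card_subgroup
    have h4 : Nat.card M' = 2 ^ (k - 1) := by
      rw [hM', card_map_of_injective ρ.ker.subtype_injective, hM]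
    have h5 : 2 ^ k = 2 * 2 ^ (k - 1) := by rw [← pow_succ']; congr 1; omega
    rw [← h1', h4, ← h1, hk, h5] at h3
    have hS : 0 < Nat.card S * 2 ^ (k - 1) := by
      have := Nat.card_pos (α := S); positivity
    refine Nat.eq_of_mul_eq_mul_right hS ?_
    calc Nat.card ρ'.ker * (Nat.card S * 2 ^ (k - 1)) = Nat.card ρ'.ker * Nat.card S * 2 ^ (k - 1) := by ring
      _ = 2 * 2 ^ (k - 1) * Nat.card S := h3.symm
      _ = 2 * (Nat.card S * 2 ^ (k - 1)) := by ring

variable (hD : Cfsg.IsThreeTranspositionClass D) (hker : IsPGroup 2 π.ker) (hZ : center G = ⊥)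
  (hsurj : Function.Surjective π)
  (hgen : ∀ d ∈ D, ∀ f ∈ D, ¬ Commute (π d) (π f) →
    closure {t : S | ∃ e ∈ D, π e = t ∧ (Commute t (π d) ∨ Commute t (π f))} = ⊤)
include hD hker hZ hsurj hgen

theorem ker_elementary (hS : _root_.commutator S = ⊤) (hcov : NoDoubleCover.{u, v} S)
    (hline : ∃ l : List G, Odd l.length ∧ (∀ d ∈ l, d ∈ D) ∧
      (∀ d ∈ l, ∀ e ∈ l, Commute (π d) (π e)) ∧ (l.map π).prod = 1) :
    Cfsg.IsElementaryAbelian 2 π.ker := by
  classical
  set U := ⨆ d ∈ D, kerComm π d with hU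
  have : U.Normal := normal_closure_kerComm π hD hker
  have hUe : Cfsg.IsElementaryAbelian 2 U := elementary_closure π hD hker hZ hsurj hgen
  have hUk : U ≤ π.ker := iSup₂_le fun d _ => kerComm_le_ker π d
  have hUc : ∀ a ∈ U, ∀ b ∈ U, Commute a b := fun a ha b hb =>
    congrArg Subtype.val (hUe.1.is_comm.comm ⟨a, ha⟩ ⟨b, hb⟩)
  have hkU : ∀ d ∈ D, kerComm π d ≤ U := fun d hd => le_iSup₂ (f := fun d (_ : d ∈ D) => kerComm π d) d hd
  let ρ : G ⧸ U →* S := QuotientGroup.lift U π hUk
  have hρs : Function.Surjective ρ := fun s => by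
    obtain ⟨g, hg⟩ := hsurj s; exact ⟨(g : G ⧸ U), hg⟩
  have hρc : ρ.ker ≤ center (G ⧸ U) := by
    intro z hz
    induction z using QuotientGroup.induction_on with
    | H a =>
      have hall : closure D ≤ (centralizer {(a : G ⧸ U)}).comap (QuotientGroup.mk' U) := by
        rw [closure_le]
        intro d hd
        refine mem_centralizer_singleton_iff.2 (Eq.symm ?_)
        rw [QuotientGroup.mk'_apply, ← commutatorElement_eq_one_iff_mul_comm,
          ← QuotientGroup.mk'_apply, ← QuotientGroup.mk'_apply, ← map_commutatorElement,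
          QuotientGroup.mk'_apply, QuotientGroup.eq_one_iff]
        exact hkU d hd (commutator_mem_kerComm π (show π a = 1 from hz))
      rw [hD.2.2] at hall
      rw [mem_center_iff]
      intro w
      induction w using QuotientGroup.induction_on with
      | H b => exact (mem_centralizer_singleton_iff.1 (hall (mem_top b)))
  -- the derived subgroup of the quotient is the whole quotient group `S`
  set P := _root_.commutator (G ⧸ U) with hP
  have hPs : P.map ρ = ⊤ := by
    rw [hP, _root_.commutator_def, map_commutator, map_top_of_surjective ρ hρs, ← _root_.commutator_def, hS]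
  have hPp : _root_.commutator P = ⊤ := by
    refine map_injective P.subtype_injective ?_
    rw [map_subtype_commutator, ← MonoidHom.range_eq_map, range_subtype]
    refine le_antisymm ((commutator_le).2 fun a ha b hb => ?_) ?_
    · exact mul_mem (mul_mem (mul_mem ha hb) (inv_mem ha)) (inv_mem hb)
    · conv_lhs => rw [hP, _root_.commutator_def]
      rw [commutator_le]
      intro a _ b _
      obtain ⟨a', ha', ea⟩ : ρ a ∈ P.map ρ := by rw [hPs]; trivial
      obtain ⟨b', hb', eb⟩ : ρ b ∈ P.map ρ := by rw [hPs]; trivial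
      rw [CfsgLib.PSUCover.comm_congr hρc ea.symm eb.symm]
      exact commutator_mem_commutator ha' hb'
  have hbot : (ρ.comp P.subtype).ker = ⊥ := by
    refine ker_eq_bot hcov _ (fun s => ?_) ?_ hPp ?_
    · obtain ⟨p, hp, e⟩ : s ∈ P.map ρ := by rw [hPs]; trivial
      exact ⟨⟨p, hp⟩, e⟩
    · intro z hz
      rw [mem_center_iff]
      exact fun g => Subtype.ext (mem_center_iff.1 (hρc (show ρ z.1 = 1 from hz)) g.1)
    · intro z
      obtain ⟨a, ha⟩ := QuotientGroup.mk_surjective z.1.1
      have haker : π a = 1 := by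
        have := z.2
        rw [MonoidHom.mem_ker, MonoidHom.comp_apply, coe_subtype, ← ha] at this
        exact this
      obtain ⟨j, hj⟩ := hker ⟨a, haker⟩
      refine ⟨j, Subtype.ext (Subtype.ext ?_)⟩
      have := congrArg (fun t : π.ker => ((t : G) : G ⧸ U)) hj
      simpa [← ha] using this
  have hdis : ∀ a : G, π a = 1 → (a : G ⧸ U) ∈ P → a ∈ U := by
    intro a ha hP'
    have : (⟨_, hP'⟩ : P) ∈ (ρ.comp P.subtype).ker := ha
    rw [hbot, mem_bot] at this
    exact (QuotientGroup.eq_one_iff a).1 (congrArg Subtype.val this)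
  -- modulo `P` every element is trivial or the common image of the transpositions
  obtain ⟨l, hodd, hlD, hlc, hlp⟩ := hline
  let φ : G →* (G ⧸ U) ⧸ P := (QuotientGroup.mk' P).comp (QuotientGroup.mk' U)
  obtain ⟨d0, hd0, hcls⟩ := hD.2.1
  have hφab : ∀ x y : (G ⧸ U) ⧸ P, x * y = y * x := fun x y => by
    induction x using QuotientGroup.induction_on with
    | H a =>
      induction y using QuotientGroup.induction_on with
      | H b =>
        rw [← commutatorElement_eq_one_iff_mul_comm, ← QuotientGroup.mk'_apply, ← QuotientGroup.mk'_apply,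
          ← map_commutatorElement, QuotientGroup.mk'_apply, QuotientGroup.eq_one_iff, hP,
          _root_.commutator_def]
        exact commutator_mem_commutator (mem_top a) (mem_top b)
  have hφD : ∀ d ∈ D, φ d = φ d0 := by
    intro d hd
    rw [hcls] at hd
    obtain ⟨g, rfl⟩ := isConj_iff.1 (show IsConj d0 d from hd)
    rw [map_mul, map_mul, map_inv, hφab (φ g), mul_inv_cancel_right]
  have hA2 : φ d0 * φ d0 = 1 := by
    rw [← map_mul, CfsgLib.ThreeTransp.mul_self_eq_one (hD.1.1 d0 hd0), map_one]
  have hφ : ∀ g : G, φ g = 1 ∨ φ g = φ d0 := by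
    intro g
    have hg : g ∈ closure D := by rw [hD.2.2]; trivial
    induction hg using closure_induction with
    | mem x hx => exact Or.inr (hφD x hx)
    | one => exact Or.inl (map_one φ)
    | mul a b _ _ ha hb =>
      rcases ha with ha | ha <;> rcases hb with hb | hb <;> simp [ha, hb, hA2]
    | inv a _ ha =>
      rcases ha with ha | ha
      · simp [ha]
      · exact Or.inr (by rw [map_inv, ha, inv_eq_of_mul_eq_one_right hA2])
  have hφl : ∀ l' : List G, (∀ d ∈ l', d ∈ D) → φ l'.prod = φ d0 ^ l'.length := by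
    intro l' h
    induction l' with
    | nil => simp
    | cons a t ih =>
      rw [List.prod_cons, map_mul, hφD a (h a (by simp)), ih (fun d hd => h d (by simp [hd])),
        List.length_cons, pow_succ']
  set v₀ := l.prod with hv₀
  have hv₀k : π v₀ = 1 := by rw [hv₀, map_list_prod, hlp]
  have hv₀φ : φ v₀ = φ d0 := by
    obtain ⟨m, hm⟩ := hodd
    rw [hφl l hlD, hm, pow_succ, pow_mul, pow_two, hA2, one_pow, one_mul]
  have hsplit : ∀ v ∈ π.ker, v ∈ U ∨ v₀⁻¹ * v ∈ U := by
    intro v hv
    have hv' : π v = 1 := hv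
    rcases hφ v with h | h
    · exact Or.inl (hdis v hv' ((QuotientGroup.eq_one_iff _).1 h))
    · refine Or.inr (hdis _ (by rw [map_mul, map_inv, hv₀k, hv', inv_one, one_mul]) ?_)
      refine (QuotientGroup.eq_one_iff _).1 (show φ (v₀⁻¹ * v) = 1 from ?_)
      rw [map_mul, map_inv, hv₀φ, h, inv_mul_cancel]
  -- the lifts in `l` commute
  have hll : ∀ d ∈ l, ∀ e ∈ l, Commute d e := fun d hd e he =>
    commute_of_image π hD hker (hlD d hd) (hlD e he) (hlc d hd e he)
  have hv₀2 : v₀ ^ 2 = 1 := by
    have : ∀ l' : List G, (∀ d ∈ l', d ∈ l) → l'.prod ^ 2 = 1 := by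
      intro l' h
      induction l' with
      | nil => simp
      | cons a t ih =>
        rw [List.prod_cons, (Commute.list_prod_right t a fun b hb => hll a (h a (by simp)) b
          (h b (by simp [hb]))).mul_pow, ih (fun d hd => h d (by simp [hd])), pow_two,
          CfsgLib.ThreeTransp.mul_self_eq_one (hD.1.1 a (hlD a (h a (by simp)))), one_mul]
    exact this l fun d hd => hd
  have hv₀U : ∀ x ∈ U, Commute v₀ x := by
    set H := ⨆ d ∈ l, kerComm π d with hH
    have hcH : ∀ d ∈ l, ∀ y ∈ H, Commute d y := by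
      intro d hd y hy
      have : H ≤ centralizer {d} := iSup₂_le fun e he y hy =>
        mem_centralizer_singleton_iff.2
          (commute_kerComm π hD hker (hlD e he) (hlD d hd) (hlc d hd e he) hy).symm.eq
      exact (mem_centralizer_singleton_iff.1 (this hy) : y * d = d * y).symm
    have hmem : ∀ x ∈ U, ⁅v₀, x⁆ ∈ H := by
      intro x hx
      have : ∀ l' : List G, (∀ d ∈ l', d ∈ l) → ⁅l'.prod, x⁆ ∈ H := by
        intro l' h
        induction l' with
        | nil => simp [commutatorElement_one_left]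
        | cons a t ih =>
          have ha := h a (by simp)
          have hb := ih fun d hd => h d (by simp [hd])
          rw [List.prod_cons, show ⁅a * t.prod, x⁆ = a * ⁅t.prod, x⁆ * a⁻¹ * ⁅a, x⁆ by
            simp only [commutatorElement_def]; group, (hcH a ha _ hb).eq, mul_inv_cancel_right,
            ← commutatorElement_inv x a]
          exact mul_mem hb (le_iSup₂ (f := fun d (_ : d ∈ l) => kerComm π d) a ha
            (inv_mem (commutator_mem_kerComm π (hUk hx))))
      exact this l fun d hd => hd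
    obtain ⟨d₁, hd₁⟩ : ∃ d, d ∈ l := List.exists_mem_of_ne_nil l (by rintro rfl; simp at hodd)
    intro x hx
    have hw : ∀ g : G, Commute d₁ (g * ⁅v₀, x⁆ * g⁻¹) := by
      intro g
      have hu : v₀⁻¹ * (g * v₀ * g⁻¹) ∈ U := by
        rw [← QuotientGroup.eq]
        rw [QuotientGroup.mk_mul, QuotientGroup.mk_mul, QuotientGroup.mk_inv]
        rw [(mem_center_iff.1 (hρc (show ρ (v₀ : G ⧸ U) = 1 from hv₀k)) (g : G ⧸ U)),
          mul_inv_cancel_right]
      have hy : g * x * g⁻¹ ∈ U := (inferInstance : U.Normal).conj_mem x hx g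
      have e : g * ⁅v₀, x⁆ * g⁻¹ = ⁅v₀, g * x * g⁻¹⁆ := by
        rw [conjugate_commutatorElement, show g * v₀ * g⁻¹ = v₀ * (v₀⁻¹ * (g * v₀ * g⁻¹)) by group]
        generalize v₀⁻¹ * (g * v₀ * g⁻¹) = w at hu ⊢
        rw [show ⁅v₀ * w, g * x * g⁻¹⁆ = v₀ * ⁅w, g * x * g⁻¹⁆ * v₀⁻¹ * ⁅v₀, g * x * g⁻¹⁆ by
            simp only [commutatorElement_def]; group,
          commutatorElement_eq_one_iff_mul_comm.2 (hUc w hu _ hy).eq, mul_one, mul_inv_cancel, one_mul]
      rw [e]
      exact hcH d₁ hd₁ _ (hmem _ hy)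
    have hcent : ⁅v₀, x⁆ ∈ center G := by
      have hall : closure D ≤ centralizer {⁅v₀, x⁆} := by
        rw [closure_le]
        intro d hd
        have hdd : IsConj d₁ d := by
          have := hlD d₁ hd₁
          rw [hcls] at this hd
          exact (show IsConj d0 d₁ from this).symm.trans hd
        obtain ⟨g, rfl⟩ := isConj_iff.1 hdd
        refine mem_centralizer_singleton_iff.2 ?_
        have h := (Commute.conj_iff g).2 (hw g⁻¹)
        rw [show g * (g⁻¹ * ⁅v₀, x⁆ * g⁻¹⁻¹) * g⁻¹ = ⁅v₀, x⁆ by group] at h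
        exact h.eq
      rw [hD.2.2] at hall
      exact mem_center_iff.2 fun g => mem_centralizer_singleton_iff.1 (hall (mem_top g))
    rw [hZ, mem_bot] at hcent
    exact commutatorElement_eq_one_iff_mul_comm.1 hcent
  have hform : ∀ v ∈ π.ker, ∃ u ∈ U, v = u ∨ v = v₀ * u := fun v hv => by
    rcases hsplit v hv with h | h
    · exact ⟨v, h, Or.inl rfl⟩
    · exact ⟨_, h, Or.inr (by group)⟩
  refine ⟨⟨⟨fun a b => Subtype.ext ?_⟩⟩, fun v hv => ?_⟩
  · show Commute (a : G) b
    obtain ⟨u, hu, ha | ha⟩ := hform a a.2 <;> obtain ⟨w, hw, hb | hb⟩ := hform b b.2 <;> rw [ha, hb]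
    · exact hUc u hu w hw
    · exact ((hv₀U u hu).symm).mul_right (hUc u hu w hw)
    · exact ((hv₀U w hw)).mul_left (hUc u hu w hw)
    · exact ((Commute.refl v₀).mul_right (hv₀U w hw)).mul_left ((hv₀U u hu).symm.mul_right (hUc u hu w hw))
  · obtain ⟨u, hu, rfl | rfl⟩ := hform v hv
    · exact hUe.2 v hu
    · rw [(hv₀U u hu).mul_pow, hv₀2, hUe.2 u hu, one_mul]

end CfsgLib.ThreeTranspUnitary
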