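import Cfsg.Agent.Lib.ThreeTranspUnitary.Kernel
import Cfsg.Agent.Lib.ThreeTranspUnitary.Geometry

/-!
Centreless 3-transposition groups over unitary groups over the field with four elements.
-/

set_option autoImplicit false
set_option linter.unusedSectionVars false

namespace CfsgLib.ThreeTranspUnitary

open Subgroup CfsgLib.Classical.Herm HermSpace
open scoped commutatorElement

universe u w

variable {G : Type u} [Group G] [Finite G] {D : Set G}
variable {F : Type w} [Field F] [Fintype F] (hF : Fintype.card F = 2 ^ 2) {n : ℕ} (hn : 5 ≤ n)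

include hF in
theorem two_eq_zero : (2 : F) = 0 := by
  have h := FiniteField.cast_card_eq_zero F
  rw [hF] at h
  push_cast at h
  exact mul_self_eq_zero.1 (show (2 : F) * 2 = 0 by linear_combination h)

theorem fixed_eq_one (c : F) (hc : (stdHerm hF n).conj c = c) (h0 : c ≠ 0) : c = 1 := by
  rw [stdHerm_conj] at hc
  exact mul_right_cancel₀ h0 (by linear_combination hc)

include hn in
theorem derived_eq_top : _root_.commutator (detHom (stdHerm hF n)).ker = ⊤ := by
  refine map_injective (detHom (stdHerm hF n)).ker.subtype_injective ?_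
  rw [map_subtype_commutator, ← MonoidHom.range_eq_map, range_subtype]
  exact CfsgLib.PSUCover.perf_std hF (by omega) (by omega)

include hn in
theorem closure_isTv : closure {t : (detHom (stdHerm hF n)).ker | ∃ v, IsTv t v} = ⊤ := by
  have h2 := two_eq_zero hF
  refine map_injective (detHom (stdHerm hF n)).ker.subtype_injective ?_
  rw [← MonoidHom.range_eq_map, range_subtype]
  refine le_antisymm (map_subtype_le _) ?_
  obtain ⟨e, f, p⟩ := exists_pair_std hF (n := n) (by omega)
  conv_lhs => rw [← rootGen_std hF (n := n) (by omega), ← closure_transvectionSet (big_std hF (by omega))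
    (perfectable_std hF (by omega) (by omega)) p]
  rw [closure_le]
  rintro _ ⟨v, c, hc, hv, rfl⟩
  by_cases htriv : v = 0 ∨ c = 0
  · have : shear (stdHerm hF n) v c hc = 1 := unit_ext fun x => by
      rw [shear_apply]
      rcases htriv with rfl | rfl <;> simp
    rw [this]
    exact one_mem _
  push Not at htriv
  have hc1 : c = 1 := by
    refine fixed_eq_one hF (n := n) c ?_ htriv.2
    have := hc.eq
    rw [hv, mul_zero, add_zero] at this
    linear_combination this - c * h2
  subst hc1
  obtain ⟨g, hg⟩ := exists_isTv h2 htriv.1 hv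
  refine ⟨g, subset_closure ⟨v, hg⟩, ?_⟩
  show g.1 = _
  exact unit_ext fun x => by rw [hg.2.2, shear_apply, one_mul]

/-- The members map onto the transvections, and the perps of two non-commuting ones generate. -/
theorem image_facts (hn : 5 ≤ n) (hD : Cfsg.IsThreeTranspositionClass D)
    (π : G →* (detHom (stdHerm hF n)).ker) (hsurj : Function.Surjective π) :
    (∀ d ∈ D, ∃ v, IsTv (π d) v) ∧
    (∀ (t : (detHom (stdHerm hF n)).ker) v, IsTv t v → t ∈ π '' D) ∧
    ∀ d ∈ D, ∀ f ∈ D, ¬ Commute (π d) (π f) →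
      closure {t | ∃ e ∈ D, π e = t ∧ (Commute t (π d) ∨ Commute t (π f))} = ⊤ := by
  classical
  have h2 := two_eq_zero hF
  have hfix := fixed_eq_one hF (n := n)
  have hd : 5 ≤ Module.finrank F (Fin n → F) := by rw [Module.finrank_fin_fun]; exact hn
  set E : Set (detHom (stdHerm hF n)).ker := π '' D with hE
  have hEconj : ∀ k, ∀ e ∈ E, k * e * k⁻¹ ∈ E := by
    rintro k _ ⟨d, hd', rfl⟩
    obtain ⟨g, rfl⟩ := hsurj k
    exact ⟨g * d * g⁻¹, conj_mem hD hd', by rw [map_mul, map_mul, map_inv]⟩
  -- a sample of the geometry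
  let e : Fin 4 → Fin n := fun i => ⟨i, by omega⟩
  have he : Function.Injective e := fun i j h => Fin.ext (by simpa [e] using congrArg Fin.val h)
  let v : Fin 4 → (Fin n → F) := fun i => Pi.single (e i) 1
  have hv : ∀ i j, (stdHerm hF n).h (v i) (v j) = if i = j then 1 else 0 := by
    intro i j
    simp only [stdHerm_h, Cfsg.hermForm, v]
    rw [Finset.sum_eq_single (e i) (fun k _ hk => by simp [hk]) (by simp)]
    rcases eq_or_ne i j with rfl | hij
    · simp
    · simp [hij, he.ne hij]
  set p := v 0 + v 1 with hp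
  set q := v 2 + v 3 with hq
  have hpp : (stdHerm hF n).h p p = 0 := by
    simp only [hp, (stdHerm hF n).add_left, (stdHerm hF n).add_right, hv]; simp; linear_combination h2
  have hqq : (stdHerm hF n).h q q = 0 := by
    simp only [hq, (stdHerm hF n).add_left, (stdHerm hF n).add_right, hv]; simp; linear_combination h2
  have hpq : (stdHerm hF n).h p q = 0 := by
    simp only [hp, hq, (stdHerm hF n).add_left, (stdHerm hF n).add_right, hv]; simp
  have hp1 : (stdHerm hF n).h p (v 0) = 1 := by simp only [hp, (stdHerm hF n).add_left, hv]; simp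
  have hq0 : (stdHerm hF n).h q (v 0) = 0 := by simp only [hq, (stdHerm hF n).add_left, hv]; simp
  have hq2 : (stdHerm hF n).h q (v 2) = 1 := by simp only [hq, (stdHerm hF n).add_left, hv]; simp
  have hp0 : p ≠ 0 := fun h => by rw [h, (stdHerm hF n).zero_left] at hp1; exact zero_ne_one hp1
  obtain ⟨tp, htp⟩ := exists_isTv h2 hp0 hpp
  obtain ⟨d0, hd0, hcls⟩ := hD.2.1
  -- members have images of order two
  have hne : ∀ d ∈ D, π d ≠ 1 := by
    intro d hd' h1
    have hall : ∀ x ∈ D, π x = 1 := by
      intro x hx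
      rw [hcls] at hd' hx
      obtain ⟨g, rfl⟩ := isConj_iff.1 ((show IsConj d0 d from hd').symm.trans (show IsConj d0 x from hx))
      simp [h1]
    obtain ⟨g, hg⟩ := hsurj tp
    have : closure D ≤ π.ker := (closure_le _).2 hall
    rw [hD.2.2] at this
    have h0 : tp = 1 := hg ▸ this (mem_top g)
    obtain ⟨y, hy⟩ := (stdHerm hF n).exists_h_one hp0
    have := htp.2.2 y
    rw [h0, hy, one_smul] at this
    exact hp0 (by simpa using this.symm)
  -- members have transvection images
  have htv : ∀ d ∈ D, ∃ v, IsTv (π d) v := by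
    intro d hd'
    refine isTv_of_order hfix h2 ?_ (hne d hd') fun k => ?_
    · rw [← map_mul, CfsgLib.ThreeTransp.mul_self_eq_one (hD.1.1 d hd'), map_one]
    · obtain ⟨g, rfl⟩ := hsurj k
      rw [← map_inv, ← map_mul, ← map_mul, ← map_mul]
      rcases hD.1.2 d hd' _ (conj_mem hD (g := g) hd') with h | h
      · exact Or.inl (by rw [← map_pow, h, map_one])
      · exact Or.inr (by rw [← map_pow, h, map_one])
  have hmem : ∀ t v, IsTv (H := stdHerm hF n) t v → t ∈ E := by
    intro t v' ht
    obtain ⟨w', hw⟩ := htv d0 hd0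
    exact isTv_mem hfix h2 hd hEconj hw ht ⟨d0, hd0, rfl⟩
  refine ⟨htv, hmem, fun d hd' f hf hnc => ?_⟩
  obtain ⟨a, ha⟩ := htv d hd'
  obtain ⟨b, hb⟩ := htv f hf
  rw [eq_top_iff, ← closure_isTv hF hn, closure_le]
  rintro t ⟨r, hr⟩
  refine isTv_mem_closure hfix h2 hd ha hb (fun h => hnc (ha.commute hb h)) ?_ hr
  intro t' r' ht' hor
  obtain ⟨x, hx, hxt⟩ := hmem t' r' ht'
  exact ⟨x, hx, hxt, hor.imp (fun h => ht'.commute ha h) (fun h => ht'.commute hb h)⟩

/-- The kernel of a centreless 3-transposition group over `SU(n, 2)` is elementary abelian. -/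
theorem ker_elementary_of_unitary (hn : 5 ≤ n) (hD : Cfsg.IsThreeTranspositionClass D)
    (π : G →* (detHom (stdHerm hF n)).ker) (hsurj : Function.Surjective π)
    (hker : IsPGroup 2 π.ker) (hZ : center G = ⊥)
    (hcov : NoDoubleCover.{u, w} (detHom (stdHerm hF n)).ker) :
    Cfsg.IsElementaryAbelian 2 π.ker := by
  classical
  have h2 := two_eq_zero hF
  have hfix := fixed_eq_one hF (n := n)
  have hd : 5 ≤ Module.finrank F (Fin n → F) := by rw [Module.finrank_fin_fun]; exact hn
  set E : Set (detHom (stdHerm hF n)).ker := π '' D with hE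
  have hEconj : ∀ k, ∀ e ∈ E, k * e * k⁻¹ ∈ E := by
    rintro k _ ⟨d, hd', rfl⟩
    obtain ⟨g, rfl⟩ := hsurj k
    exact ⟨g * d * g⁻¹, conj_mem hD hd', by rw [map_mul, map_mul, map_inv]⟩
  -- a sample of the geometry
  let e : Fin 4 → Fin n := fun i => ⟨i, by omega⟩
  have he : Function.Injective e := fun i j h => Fin.ext (by simpa [e] using congrArg Fin.val h)
  let v : Fin 4 → (Fin n → F) := fun i => Pi.single (e i) 1
  have hv : ∀ i j, (stdHerm hF n).h (v i) (v j) = if i = j then 1 else 0 := by
    intro i j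
    simp only [stdHerm_h, Cfsg.hermForm, v]
    rw [Finset.sum_eq_single (e i) (fun k _ hk => by simp [hk]) (by simp)]
    rcases eq_or_ne i j with rfl | hij
    · simp
    · simp [hij, he.ne hij]
  set p := v 0 + v 1 with hp
  set q := v 2 + v 3 with hq
  have hpp : (stdHerm hF n).h p p = 0 := by
    simp only [hp, (stdHerm hF n).add_left, (stdHerm hF n).add_right, hv]; simp; linear_combination h2
  have hqq : (stdHerm hF n).h q q = 0 := by
    simp only [hq, (stdHerm hF n).add_left, (stdHerm hF n).add_right, hv]; simp; linear_combination h2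
  have hpq : (stdHerm hF n).h p q = 0 := by
    simp only [hp, hq, (stdHerm hF n).add_left, (stdHerm hF n).add_right, hv]; simp
  have hp1 : (stdHerm hF n).h p (v 0) = 1 := by simp only [hp, (stdHerm hF n).add_left, hv]; simp
  have hq0 : (stdHerm hF n).h q (v 0) = 0 := by simp only [hq, (stdHerm hF n).add_left, hv]; simp
  have hq2 : (stdHerm hF n).h q (v 2) = 1 := by simp only [hq, (stdHerm hF n).add_left, hv]; simp
  have hp0 : p ≠ 0 := fun h => by rw [h, (stdHerm hF n).zero_left] at hp1; exact zero_ne_one hp1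
  obtain ⟨tp, htp⟩ := exists_isTv h2 hp0 hpp
  obtain ⟨-, hmem, hgen⟩ := image_facts hF hn hD π hsurj
  refine ker_elementary π hD hker hZ hsurj hgen (derived_eq_top hF hn) hcov ?_
  obtain ⟨ω, hω⟩ := (stdHerm hF n).exists_trace_one
  have hω0 : ω ≠ 0 := by rintro rfl; simp at hω
  have hN := norm_eq_one hfix hω0
  set ω' := (stdHerm hF n).conj ω with hω'
  let vec : Fin 5 → (Fin n → F) := ![p, q, p + q, p + ω • q, p + ω' • q]
  have hperp : ∀ i, (stdHerm hF n).h (vec i) p = 0 ∧ (stdHerm hF n).h (vec i) q = 0 := by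
    intro i
    fin_cases i <;> refine ⟨?_, ?_⟩ <;> simp [vec, (stdHerm hF n).add_left, (stdHerm hF n).smul_left, hpp, hqq, hpq, (stdHerm hF n).h_comm_zero hpq, -stdHerm_h]
  have horth : ∀ i j, (stdHerm hF n).h (vec i) (vec j) = 0 := by
    intro i j
    obtain ⟨h1, h2'⟩ := hperp i
    fin_cases j <;> simp [vec, (stdHerm hF n).add_right, (stdHerm hF n).smul_right, h1, h2', -stdHerm_h]
  have hnz : ∀ i, vec i ≠ 0 := by
    intro i h0
    have e1 : (stdHerm hF n).h (vec i) (v 0) = 0 := by rw [h0, (stdHerm hF n).zero_left]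
    have e2 : (stdHerm hF n).h (vec i) (v 2) = 0 := by rw [h0, (stdHerm hF n).zero_left]
    fin_cases i <;>
      simp [vec, (stdHerm hF n).add_left, (stdHerm hF n).smul_left, hp1, hq0, hq2, hω0, -stdHerm_h] at e1 e2
  choose t ht using fun i => exists_isTv h2 (hnz i) (horth i i)
  choose x hx hxt using fun i => hmem (t i) (vec i) (ht i)
  refine ⟨List.ofFn x, by simp; decide, ?_, ?_, ?_⟩
  · simp only [List.mem_ofFn]
    rintro _ ⟨i, rfl⟩
    exact hx i
  · simp only [List.mem_ofFn]
    rintro _ ⟨i, rfl⟩ _ ⟨j, rfl⟩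
    rw [hxt, hxt]
    exact (ht i).commute (ht j) (horth i j)
  · rw [List.map_ofFn, show π ∘ x = t from funext hxt]
    refine ker_ext fun z => ?_
    simp only [List.ofFn_succ, List.ofFn_zero, List.prod_cons, List.prod_nil, mul_one]
    show (t 0).1.1 ((t 1).1.1 ((t 2).1.1 ((t 3).1.1 ((t 4).1.1 z)))) = z
    rw [(ht 0).2.2, (ht 1).2.2, (ht 2).2.2, (ht 3).2.2, (ht 4).2.2]
    simp only [vec, Matrix.cons_val, (stdHerm hF n).add_left, (stdHerm hF n).add_right, (stdHerm hF n).smul_left, (stdHerm hF n).smul_right, hpp, hqq,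
      hpq, (stdHerm hF n).h_comm_zero hpq, hω', (stdHerm hF n).conj_conj, mul_zero, add_zero]
    rw [hω'] at hω
    match_scalars <;> first
      | ring1
      | linear_combination ((stdHerm hF n).h z p * hω + (stdHerm hF n).h z p * h2 + (stdHerm hF n).h z q * (ω * (stdHerm hF n).conj ω + 1) * h2)
      | linear_combination ((stdHerm hF n).h z q * hω + (stdHerm hF n).h z q * h2)
      | linear_combination (2 * (stdHerm hF n).h z p * h2 + (stdHerm hF n).h z q * hω + (stdHerm hF n).h z q * h2)

end CfsgLib.ThreeTranspUnitary
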