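import Cfsg.Agent.Lib.ThreeTranspUnitary.Geometry
import Cfsg.Agent.Lib.ThreeTranspUnitary.FiveTwo

/-!
Pseudo-reflections of order three in `SU(5, 2)` and their relations with transvections.
-/

set_option autoImplicit false
set_option linter.unusedSectionVars false

namespace CfsgLib.ThreeTranspUnitary

open Module CfsgLib.Classical.Herm HermSpace CfsgLib.PSUCover Subgroup

universe u

variable {F : Type u} [Field F] [Fintype F] (hF : Fintype.card F = 2 ^ 2)

/-- The group `SU(5, 2)` as isometries. -/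
noncomputable abbrev SFive : Subgroup (Unit' (stdHerm hF 5)) := (detHom (stdHerm hF 5)).ker

/-- `g` is the scalar `w` twisted at the vector `f` of norm one. -/
def IsPr (w : F) (g : SFive hF) (f : Fin 5 → F) : Prop :=
  (stdHerm hF 5).h f f = 1 ∧ ∀ x, g.1.1 x = w • x + (stdHerm hF 5).h x f • f

variable {hF} {w : F} (hw : 1 + w + w * w = 0)

theorem conj_five (x : F) : (stdHerm hF 5).conj x = x * x := by rw [stdHerm_conj, sq]

include hw in
theorem w_cube : w * w * w = 1 := by linear_combination (w - 1) * hw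

include hw in
theorem w_ne : w ≠ 0 := fun h => by simp [h] at hw

theorem IsPr.unique {g g' : SFive hF} {f : Fin 5 → F} (a : IsPr hF w g f) (b : IsPr hF w g' f) : g = g' :=
  ker_ext fun x => by rw [a.2, b.2]

theorem IsPr.conj {g : SFive hF} {f : Fin 5 → F} (a : IsPr hF w g f) (k : SFive hF) :
    IsPr hF w (k * g * k⁻¹) (k.1.1 f) := by
  refine ⟨by rw [unit_h, a.1], fun x => ?_⟩
  show k.1.1 (g.1.1 ((k.1⁻¹).1 x)) = _
  rw [a.2, map_add, map_smul, map_smul, self_apply_inv]
  congr 2
  conv_rhs => rw [← self_apply_inv k.1 x, unit_h]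

theorem IsPr.apply_perp {g : SFive hF} {f x : Fin 5 → F} (a : IsPr hF w g f)
    (h : (stdHerm hF 5).h x f = 0) : g.1.1 x = w • x := by rw [a.2, h, zero_smul, add_zero]

theorem IsPr.apply_self {g : SFive hF} {f : Fin 5 → F} (a : IsPr hF w g f) :
    g.1.1 f = (w + 1) • f := by rw [a.2, a.1, add_smul]

theorem IsPr.commute {g g' : SFive hF} {f f' : Fin 5 → F} (a : IsPr hF w g f) (b : IsPr hF w g' f')
    (h : (stdHerm hF 5).h f f' = 0) : Commute g g' := by
  refine ker_ext fun x => ?_
  show g.1.1 (g'.1.1 x) = g'.1.1 (g.1.1 x)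
  rw [a.2, b.2, b.2, a.2]
  simp only [HermSpace.add_left, HermSpace.smul_left, h, HermSpace.h_comm_zero _ h, mul_zero, add_zero]
  module

include hw in
theorem IsPr.pow_three {g : SFive hF} {f : Fin 5 → F} (a : IsPr hF w g f) : g ^ 3 = 1 := by
  rw [pow_succ', sq]
  refine ker_ext fun x => ?_
  show g.1.1 (g.1.1 (g.1.1 x)) = x
  rw [a.2, a.2 (g.1.1 x), a.2 x]
  simp only [HermSpace.add_left, HermSpace.smul_left, a.1, smul_add, smul_smul, add_smul, mul_one]
  match_scalars
  · linear_combination (w - 1) * hw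
  · linear_combination ((stdHerm hF 5).h x f) * ((3 : F) * hw) - (stdHerm hF 5).h x f * two_zero hF

include hw in
theorem exists_isPr {f : Fin 5 → F} (hf : (stdHerm hF 5).h f f = 1) : ∃ g, IsPr hF w g f := by
  have hw0 := w_ne hw
  have h2 := two_zero hF
  let W : normOne F 2 := ⟨Units.mk0 w hw0, by
    rw [MonoidHom.mem_ker, powMonoidHom_apply]
    apply Units.ext
    rw [Units.val_pow_eq_pow_val, Units.val_mk0, Units.val_one]
    linear_combination (w - 1) * hw⟩
  let c : Fin 5 → normOne F 2 := ![W * W, W, W, W, W]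
  have hc : diagHom hF c ∈ SG (stdHerm hF 5) := diagHom_mem_SG hF (by
    rw [Fin.prod_univ_five]
    refine Subtype.ext (Units.ext ?_)
    simp [c, W]
    linear_combination (w - 1) * (w * w * w + 1) * hw)
  have h0 : IsPr hF w ⟨_, hc⟩ (ev 0) := by
    refine ⟨h_ev_self hF 0, fun x => funext fun i => ?_⟩
    rw [h_ev_right]
    show (diagHom hF c).1 x i = _
    rw [diag_apply]
    fin_cases i
    · simp [c, W]
      linear_combination x 0 * (hw - (1 + w) * h2)
    all_goals simp [c, W]
  obtain ⟨k, hk⟩ := exists_map_norm_one (H := stdHerm hF 5) (h_ev_self hF 0) hf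
  refine ⟨⟨k * diagHom hF c * k⁻¹, (detHom (stdHerm hF 5)).normal_ker.conj_mem _ hc k⟩, hf, fun x => ?_⟩
  show k.1 ((diagHom hF c).1 ((k⁻¹).1 x)) = _
  rw [show (diagHom hF c).1 ((k⁻¹).1 x) = _ from h0.2 _, map_add, map_smul, map_smul, self_apply_inv, hk]
  congr 2
  conv_rhs => rw [← self_apply_inv k x, ← hk, unit_h]

theorem IsPr.apply_ev {g : SFive hF} {i : Fin 5} (a : IsPr hF w g (ev i)) (x : Fin 5 → F) (j : Fin 5) :
    g.1.1 x j = w * x j + if j = i then x j else 0 := by
  rw [a.2, h_ev_right]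
  by_cases h : j = i
  · subst h; simp
  · simp [h]

include hw in
/-- The product of two transvections on a line spanned by orthogonal vectors of norm one. -/
theorem tv_pair {t t' xf xg : SFive hF} {f g : Fin 5 → F} (ht : IsTv t (f + g))
    (ht' : IsTv t' (f + w • g)) (hxf : IsPr hF w xf f) (hxg : IsPr hF w xg g)
    (h : (stdHerm hF 5).h f g = 0) : t * t' * xg = xf := by
  refine ker_ext fun x => ?_
  show t.1.1 (t'.1.1 (xg.1.1 x)) = xf.1.1 x
  rw [ht.2.2, ht'.2.2, hxg.2, hxf.2]
  simp only [HermSpace.add_left, HermSpace.add_right, HermSpace.smul_left, HermSpace.smul_right,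
    hxg.1, hxf.1, h, HermSpace.h_comm_zero _ h, conj_five]
  have h2 := two_zero hF
  match_scalars <;> grind

theorem IsPr.commute_tv {g : SFive hF} {f v : Fin 5 → F} {t : SFive hF} (a : IsPr hF w g f)
    (b : IsTv t v) (h : (stdHerm hF 5).h v f = 0) : Commute g t := by
  refine mul_inv_eq_iff_eq_mul.1 ?_
  have hc := b.conj g
  rw [a.apply_perp h] at hc
  exact IsTv.unique (hc.smul (hfix_five hF)) b

/-- Transvections at non-perpendicular points do not commute. -/
theorem IsTv.not_commute {t t' : SFive hF} {v v' : Fin 5 → F} (a : IsTv t v) (b : IsTv t' v')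
    (h : (stdHerm hF 5).h v v' ≠ 0) : ¬ Commute t t' := by
  intro hc
  have e : t.1.1 (t'.1.1 v) = t'.1.1 (t.1.1 v) := congrArg (fun k : SFive hF => k.1.1 v) hc.eq
  rw [a.2.2 v, a.2.1, zero_smul, add_zero, b.2.2, a.2.2, HermSpace.add_left, HermSpace.smul_left,
    a.2.1, zero_add, add_eq_left, smul_eq_zero, mul_eq_zero] at e
  rcases e with (e | e) | e
  · exact h e
  · exact h (HermSpace.h_comm_zero _ e)
  · exact a.1 e

theorem add_isotropic {f g : Fin 5 → F} {b : F} (hb : b * b * b = 1) (hf : (stdHerm hF 5).h f f = 1)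
    (hg : (stdHerm hF 5).h g g = 1) (h : (stdHerm hF 5).h f g = 0) :
    (stdHerm hF 5).h (f + b • g) (f + b • g) = 0 := by
  simp only [HermSpace.add_left, HermSpace.add_right, HermSpace.smul_left, HermSpace.smul_right,
    hf, hg, h, HermSpace.h_comm_zero _ h, conj_five]
  linear_combination hb + two_zero hF

theorem add_smul_ne {f g : Fin 5 → F} {b : F} (hf : (stdHerm hF 5).h f f = 1)
    (h : (stdHerm hF 5).h f g = 0) : f + b • g ≠ 0 := fun e => by
  have := congrArg (fun y => (stdHerm hF 5).h y f) e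
  simp only [HermSpace.add_left, HermSpace.smul_left, hf, HermSpace.h_comm_zero _ h,
    HermSpace.zero_left, mul_zero, add_zero] at this
  exact one_ne_zero this

include hw in
theorem exists_pair {f g : Fin 5 → F} (hf : (stdHerm hF 5).h f f = 1) (hg : (stdHerm hF 5).h g g = 1)
    (h : (stdHerm hF 5).h f g = 0) : ∃ t t' : SFive hF, IsTv t (f + g) ∧ IsTv t' (f + w • g) := by
  obtain ⟨t, ht⟩ := exists_isTv (two_zero hF) (add_smul_ne (b := 1) hf h)
    (add_isotropic (b := 1) (by ring) hf hg h)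
  obtain ⟨t', ht'⟩ := exists_isTv (two_zero hF) (add_smul_ne (b := w) hf h)
    (add_isotropic (b := w) (w_cube hw) hf hg h)
  rw [one_smul] at ht
  exact ⟨t, t', ht, ht'⟩

end CfsgLib.ThreeTranspUnitary
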