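import Mathlib
import Cfsg.Prelude.Def_SporadicB
import Cfsg.Prelude.Def_Transfer
import Cfsg.Agent.Lib.ThreeTransp.Basic

/-!
The 2-radical of a centreless 3-transposition group is elementary abelian when the quotient has no
perfect double cover, has an odd number of pairwise commuting transpositions with product one, and is
generated by the perps of any two adjacent transpositions.
-/

set_option autoImplicit false

namespace CfsgLib.ThreeTranspUnitary

open Subgroup
open scoped commutatorElement

universe u v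

variable {G : Type u} [Group G] {S : Type v} [Group S] {D : Set G} (π : G →* S)

/-- The commutators of the kernel with `d`. -/
def kerComm (d : G) : Subgroup G := closure ((fun a => ⁅a, d⁆) '' (π.ker : Set G))

theorem commutator_mem_kerComm {a d : G} (ha : a ∈ π.ker) : ⁅a, d⁆ ∈ kerComm π d :=
  subset_closure ⟨a, ha, rfl⟩

theorem kerComm_le_ker (d : G) : kerComm π d ≤ π.ker := by
  rw [kerComm, closure_le]
  rintro _ ⟨a, ha, rfl⟩
  have : π a = 1 := ha
  simp [MonoidHom.mem_ker, commutatorElement_def, this]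

variable (hD : Cfsg.IsThreeTranspositionClass D)
include hD

theorem conj_mem {g e : G} (he : e ∈ D) : g * e * g⁻¹ ∈ D := by
  obtain ⟨d, -, hd⟩ := hD.2.1
  rw [hd] at he ⊢
  exact (show IsConj d e from he).trans (isConj_iff.2 ⟨g, rfl⟩)

/-- Members with commuting images commute. -/
theorem commute_of_image (hker : IsPGroup 2 π.ker) {d e : G} (hd : d ∈ D) (he : e ∈ D)
    (h : Commute (π d) (π e)) : Commute d e := by
  by_contra hn
  have h3 := CfsgLib.ThreeTransp.pow_three_eq_one hD.1 hd he hn
  have hd2 := CfsgLib.ThreeTransp.mul_self_eq_one (hD.1.1 d hd)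
  have he2 := CfsgLib.ThreeTransp.mul_self_eq_one (hD.1.1 e he)
  have h2 : (π (d * e)) ^ 2 = 1 := by
    rw [map_mul, h.mul_pow, pow_two, pow_two, ← map_mul, ← map_mul, hd2, he2, map_one, one_mul]
  have h31 : (π (d * e)) ^ 3 = 1 := by rw [← map_pow, h3, map_one]
  have hmem : d * e ∈ π.ker := by
    rw [MonoidHom.mem_ker]
    rwa [pow_succ, h2, one_mul] at h31
  obtain ⟨k, hk⟩ := hker ⟨d * e, hmem⟩
  have hk' : (d * e) ^ 2 ^ k = 1 := congrArg Subtype.val hk
  have h1 : orderOf (d * e) = 1 :=
    Nat.eq_one_of_dvd_coprimes (Nat.Coprime.pow_left k (by norm_num))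
      (orderOf_dvd_of_pow_eq_one hk') (orderOf_dvd_of_pow_eq_one h3)
  exact hn (CfsgLib.ThreeTransp.commute_of_sq_eq_one (hD.1.1 d hd) (hD.1.1 e he)
    (by rw [orderOf_eq_one_iff.1 h1, one_pow]))

variable (hker : IsPGroup 2 π.ker)
include hker

/-- The members commuting with `d` modulo the kernel centralise `kerComm π d`. -/
theorem commute_kerComm {d e : G} (hd : d ∈ D) (he : e ∈ D) (h : Commute (π e) (π d)) {x : G}
    (hx : x ∈ kerComm π d) : Commute e x := by
  induction hx using closure_induction with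
  | mem y hy =>
    obtain ⟨a, ha, rfl⟩ := hy
    have ha' : π a = 1 := ha
    show Commute e (a * d * a⁻¹ * d⁻¹)
    exact (commute_of_image π hD hker he (conj_mem hD hd) (by simpa [ha'] using h)).mul_right
      (commute_of_image π hD hker he hd h).inv_right
  | one => exact Commute.one_right e
  | mul a b _ _ ha hb => exact ha.mul_right hb
  | inv a _ ha => exact ha.inv_right

theorem conj_mem_kerComm {d v x : G} (hv : v ∈ π.ker) (hx : x ∈ kerComm π d) :
    v * x * v⁻¹ ∈ kerComm π d := by
  induction hx using closure_induction with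
  | mem y hy =>
    obtain ⟨a, ha, rfl⟩ := hy
    have e : v * ⁅a, d⁆ * v⁻¹ = ⁅v * a, d⁆ * ⁅v, d⁆⁻¹ := by
      simp only [commutatorElement_def]; group
    rw [e]
    exact mul_mem (commutator_mem_kerComm π (mul_mem hv ha)) (inv_mem (commutator_mem_kerComm π hv))
  | one => simp
  | mul a b _ _ ha hb => rw [show v * (a * b) * v⁻¹ = v * a * v⁻¹ * (v * b * v⁻¹) by group]; exact mul_mem ha hb
  | inv a _ ha => rw [show v * a⁻¹ * v⁻¹ = (v * a * v⁻¹)⁻¹ by group]; exact inv_mem ha

theorem conj_kerComm {d g x : G} (hx : x ∈ kerComm π d) : g * x * g⁻¹ ∈ kerComm π (g * d * g⁻¹) := by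
  induction hx using closure_induction with
  | mem y hy =>
    obtain ⟨a, ha, rfl⟩ := hy
    rw [show g * ⁅a, d⁆ * g⁻¹ = ⁅g * a * g⁻¹, g * d * g⁻¹⁆ from conjugate_commutatorElement _ _ _]
    exact commutator_mem_kerComm π (π.normal_ker.conj_mem a ha g)
  | one => simp
  | mul a b _ _ ha hb => rw [show g * (a * b) * g⁻¹ = g * a * g⁻¹ * (g * b * g⁻¹) by group]; exact mul_mem ha hb
  | inv a _ ha => rw [show g * a⁻¹ * g⁻¹ = (g * a * g⁻¹)⁻¹ by group]; exact inv_mem ha

variable (hZ : center G = ⊥) (hsurj : Function.Surjective π)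
  (hgen : ∀ d ∈ D, ∀ f ∈ D, ¬ Commute (π d) (π f) →
    closure {t : S | ∃ e ∈ D, π e = t ∧ (Commute t (π d) ∨ Commute t (π f))} = ⊤)
include hZ hsurj hgen

theorem kerComm_commute {d f : G} (hd : d ∈ D) (hf : f ∈ D) {x y : G} (hx : x ∈ kerComm π d)
    (hy : y ∈ kerComm π f) : Commute x y := by
  by_cases hc : Commute (π f) (π d)
  · -- the generators of `kerComm π f` centralise `kerComm π d`
    induction hy using closure_induction with
    | mem z hz =>
      obtain ⟨a, ha, rfl⟩ := hz
      have ha' : π a = 1 := ha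
      show Commute x (a * f * a⁻¹ * f⁻¹)
      exact ((commute_kerComm π hD hker hd (conj_mem hD hf) (by simpa [ha'] using hc) hx).mul_left
        (commute_kerComm π hD hker hd hf hc hx).inv_left).symm
    | one => exact Commute.one_right x
    | mul a b _ _ ha hb => exact ha.mul_right hb
    | inv a _ ha => exact ha.inv_right
  set c := ⁅x, y⁆ with hcdef
  have hcd : c ∈ kerComm π d := by
    rw [hcdef, show ⁅x, y⁆ = x * (y * x⁻¹ * y⁻¹) by simp only [commutatorElement_def]; group]
    exact mul_mem hx (conj_mem_kerComm π hD hker (kerComm_le_ker π f hy) (inv_mem hx))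
  have hcf : c ∈ kerComm π f := by
    rw [hcdef, show ⁅x, y⁆ = x * y * x⁻¹ * y⁻¹ from commutatorElement_def x y]
    exact mul_mem (conj_mem_kerComm π hD hker (kerComm_le_ker π d hx) hy) (inv_mem hy)
  -- the centraliser of `c` covers the quotient
  set L := centralizer ({c} : Set G) with hL
  have hT : ∀ e ∈ D, (Commute (π e) (π d) ∨ Commute (π e) (π f)) → e ∈ L := by
    intro e he h
    refine mem_centralizer_singleton_iff.2 ?_
    rcases h with h | h
    · exact (commute_kerComm π hD hker hd he h hcd).eq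
    · exact (commute_kerComm π hD hker hf he h hcf).eq
  have hLtop : L.map π = ⊤ := by
    rw [eq_top_iff, ← hgen d hd f hf (fun h => hc h.symm), closure_le]
    rintro _ ⟨e, he, rfl, h⟩
    exact ⟨e, hT e he h, rfl⟩
  have hall : ∀ e ∈ D, e ∈ L := by
    intro e he
    obtain ⟨d0, -, hd0⟩ := hD.2.1
    have hde : IsConj d e := by
      rw [hd0] at hd he
      exact (show IsConj d0 d from hd).symm.trans he
    obtain ⟨g, rfl⟩ := isConj_iff.1 hde
    obtain ⟨l, hl, hlg⟩ : π g ∈ L.map π := by rw [hLtop]; trivial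
    have hv : π (l⁻¹ * g) = 1 := by rw [map_mul, map_inv, hlg, inv_mul_cancel]
    rw [show g * d * g⁻¹ = l * ((l⁻¹ * g) * d * (l⁻¹ * g)⁻¹) * l⁻¹ by group]
    exact mul_mem (mul_mem hl (hT _ (conj_mem hD hd) (Or.inl (by simp only [map_mul π (l⁻¹ * g * d), map_mul π (l⁻¹ * g) d, map_inv, hv, one_mul, inv_one, mul_one]; exact Commute.refl _))))
      (inv_mem hl)
  have hcz : c ∈ center G := by
    rw [mem_center_iff]
    intro g
    have : g ∈ L := by
      have h : closure D ≤ L := (closure_le L).2 hall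
      rw [hD.2.2] at h
      exact h trivial
    exact (mem_centralizer_singleton_iff.1 this)
  rw [hZ, mem_bot] at hcz
  exact commutatorElement_eq_one_iff_mul_comm.1 hcz

/-- The subgroup generated by all commutators with transpositions is abelian of exponent two. -/
theorem elementary_closure : Cfsg.IsElementaryAbelian 2 (⨆ d ∈ D, kerComm π d) := by
  have hle : (⨆ d ∈ D, kerComm π d) = closure (⋃ d ∈ D, (kerComm π d : Set G)) := by
    simp only [Subgroup.closure_iUnion, closure_eq]
  have hcomm : ∀ x ∈ (⋃ d ∈ D, (kerComm π d : Set G)), ∀ y ∈ (⋃ d ∈ D, (kerComm π d : Set G)),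
      x * y = y * x := by
    intro x hx y hy
    simp only [Set.mem_iUnion] at hx hy
    obtain ⟨d, hd, hx⟩ := hx
    obtain ⟨f, hf, hy⟩ := hy
    exact (kerComm_commute π hD hker hZ hsurj hgen hd hf hx hy).eq
  have hC : IsMulCommutative (⨆ d ∈ D, kerComm π d : Subgroup G) := by
    rw [hle]; exact isMulCommutative_closure hcomm
  refine ⟨hC, fun x hx => ?_⟩
  have hC' : ∀ a ∈ (⨆ d ∈ D, kerComm π d), ∀ b ∈ (⨆ d ∈ D, kerComm π d), Commute a b := fun a ha b hb =>
    congrArg Subtype.val (hC.is_comm.comm ⟨a, ha⟩ ⟨b, hb⟩)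
  rw [hle] at hx hC'
  induction hx using closure_induction with
  | mem y hy =>
    simp only [Set.mem_iUnion] at hy
    obtain ⟨d, hd, hy⟩ := hy
    induction hy using closure_induction with
    | mem z hz =>
      obtain ⟨a, ha, rfl⟩ := hz
      have ha' : π a = 1 := ha
      exact CfsgLib.ThreeTransp.sq_eq_one_of_commute (hD.1.1 _ (conj_mem hD hd))
        (by rw [orderOf_inv]; exact hD.1.1 d hd)
        (commute_of_image π hD hker (conj_mem hD hd) hd (by simp [ha'])).inv_right
    | one => simp
    | mul a b ha' hb' ha hb =>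
      rw [Commute.mul_pow (hC' a (subset_closure (by simp only [Set.mem_iUnion]; exact ⟨d, hd, ha'⟩)) b
        (subset_closure (by simp only [Set.mem_iUnion]; exact ⟨d, hd, hb'⟩))), ha, hb, one_mul]
    | inv a _ ha => rw [inv_pow, ha, inv_one]
  | one => simp
  | mul a b ha' hb' ha hb => rw [Commute.mul_pow (hC' a ha' b hb'), ha, hb, one_mul]
  | inv a _ ha => rw [inv_pow, ha, inv_one]

omit hZ hsurj hgen in
/-- The subgroup generated by all commutators with transpositions is normal. -/
theorem normal_closure_kerComm : (⨆ d ∈ D, kerComm π d).Normal := by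
  refine ⟨fun x hx g => ?_⟩
  have h : (⨆ d ∈ D, kerComm π d) ≤ (⨆ d ∈ D, kerComm π d).comap (MulAut.conj g).toMonoidHom :=
    iSup₂_le fun d hd y hy => le_iSup₂ (f := fun d (_ : d ∈ D) => kerComm π d) _ (conj_mem hD hd)
      (conj_kerComm π hD hker hy)
  exact h hx

end CfsgLib.ThreeTranspUnitary
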