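import Cfsg.Agent.Lib.ThreeTranspUnitary.Free

/-!
A Sylow two-subgroup of `SU(5, 2)` lifts to a 3-transposition group over it.
-/

set_option autoImplicit false
set_option linter.unusedSectionVars false

namespace CfsgLib.ThreeTranspUnitary

open Module CfsgLib.Classical.Herm HermSpace CfsgLib.PSUCover Subgroup
open scoped commutatorElement Pointwise

universe u v

variable {F : Type v} [Field F] [Fintype F] {hF : Fintype.card F = 2 ^ 2} {w : F}
  (hw : 1 + w + w * w = 0)
variable {G : Type u} [Group G] {D : Set G} {π : G →* SFive hF} (P : Setting π D)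
  (htv : ∀ d ∈ D, ∃ v, IsTv (π d) v) (hmem : ∀ t v, IsTv t v → t ∈ π '' D)

include hw P hmem in
/-- A transposition inverting a lift of a diagonal element of order three. -/
theorem exists_inv_lift {xf xg : SFive hF} {f g : Fin 5 → F} (hxf : IsPr hF w xf f)
    (hxg : IsPr hF w xg g) (h : (stdHerm hF 5).h f g = 0) {z : G} (hz : π z = xf * xg⁻¹)
    (hz3 : z ^ 3 = 1) : ∃ d ∈ D, IsTv (π d) (f + g) ∧ d * z * d⁻¹ = z⁻¹ := by
  obtain ⟨t, t', ht, ht'⟩ := exists_pair hw hxf.1 hxg.1 h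
  have e : t * t' = xf * xg⁻¹ := eq_mul_inv_of_mul_eq (tv_pair hw ht ht' hxf hxg h)
  obtain ⟨d, hd, rfl⟩ := hmem t _ ht
  obtain ⟨d', hd', rfl⟩ := hmem t' _ ht'
  obtain ⟨d₁, hd₁, e₁, hi⟩ := P.exists_inverter hd hd' (ht.not_commute ht' (by
    simp only [HermSpace.add_left, HermSpace.add_right, HermSpace.smul_right, hxf.1, hxg.1, h,
      HermSpace.h_comm_zero _ h, conj_five]
    intro e0
    exact w_ne hw (by linear_combination hw - e0))) (hz.trans e.symm) hz3
  exact ⟨d₁, hd₁, e₁ ▸ ht, hi⟩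

include hw P hmem in
theorem inv_lift_unique {xf xg : SFive hF} {f g : Fin 5 → F} (hxf : IsPr hF w xf f)
    (hxg : IsPr hF w xg g) (h : (stdHerm hF 5).h f g = 0) {z : G} (hz : π z = xf * xg⁻¹) {d d' : G}
    (hd : d ∈ D) (hd' : d' ∈ D) (ht : IsTv (π d) (f + g)) (ht' : IsTv (π d') (f + g))
    (hi : d * z * d⁻¹ = z⁻¹) (hi' : d' * z * d'⁻¹ = z⁻¹) : d = d' := by
  obtain ⟨t, t', h1, h2⟩ := exists_pair hw hxf.1 hxg.1 h
  have e : π z = t * t' := hz.trans (eq_mul_inv_of_mul_eq (tv_pair hw h1 h2 hxf hxg h)).symm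
  refine P.inverter_unique hd hd' (IsTv.unique ht ht') hi hi' (ht.not_commute (ht.conj (π z)) ?_)
  rw [e]
  show (stdHerm hF 5).h (f + g) (t.1.1 (t'.1.1 (f + g))) ≠ 0
  rw [h2.2.2, h1.2.2]
  simp only [HermSpace.add_left, HermSpace.add_right, HermSpace.smul_left, HermSpace.smul_right,
    hxf.1, hxg.1, h, HermSpace.h_comm_zero _ h, conj_five]
  have h2 := two_zero hF
  rw [show (1 + 0 + w * w * (0 + 1) : F) = w by linear_combination hw - w * h2]
  have key : ∀ E : F, 1 + 0 + (0 + 1) + w * w * w + E * E * (1 + 0 + (0 + 1)) ≠ 0 := fun E e0 =>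
    one_ne_zero (α := F) (by linear_combination e0 - h2 - E * E * h2 - w_cube hw)
  exact key _

theorem root_commute_pr {xj : SFive hF} {f a : Fin 5 → F} (hx : IsPr hF w xj f)
    (ha : (stdHerm hF 5).h a f = 0) (hp : (stdHerm hF 5).h (pv : Fin 5 → F) f = 0) {l : F}
    (c : RootCond (stdHerm hF 5) pv a l) (hw : 1 + w + w * w = 0) {g : SFive hF}
    (hg : g.1 = root _ pv a l c) : Commute xj g := by
  refine mul_inv_eq_iff_eq_mul.1 (Subtype.ext ?_)
  show xj.1 * g.1 * xj.1⁻¹ = g.1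
  rw [hg, root_conj]
  have c' : RootCond (stdHerm hF 5) (w • (pv : Fin 5 → F)) (w • a) l := by
    have := c.map xj.1
    rwa [hx.apply_perp hp, hx.apply_perp ha] at this
  rw [root_congr _ c' (hx.apply_perp hp) (hx.apply_perp ha) rfl, root_smul _ (w_ne hw)]
  have hn : w * (stdHerm hF 5).conj w = 1 := by rw [conj_five, ← mul_assoc]; exact w_cube hw
  refine root_congr _ _ rfl ?_ (by rw [hn, one_mul])
  rw [smul_smul, mul_comm, hn, one_smul]

theorem rootCond_zero {a : Fin 5 → F} (ha : a ∈ wsub) (h0 : (stdHerm hF 5).h a a = 0) :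
    RootCond (stdHerm hF 5) pv a 0 := ⟨pv_iso hF, h_wsub_pv hF ha, by rw [map_zero, h0]; ring⟩

theorem three_tv {tp ta tq : SFive hF} {a : Fin 5 → F} (ha : a ∈ wsub)
    (htp : IsTv tp (pv : Fin 5 → F)) (hta : IsTv ta a) (htq : IsTv tq (pv + a)) :
    (tp * ta * tq).1 = root _ pv a 0 (rootCond_zero ha hta.2.1) := by
  refine unit_ext fun x => ?_
  show tp.1.1 (ta.1.1 (tq.1.1 x)) = _
  rw [root_apply, htp.2.2, hta.2.2, htq.2.2]
  have hpp := pv_iso hF
  have hap := h_wsub_pv hF ha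
  have h2 := two_zero hF
  generalize (pv : Fin 5 → F) = p at hpp hap ⊢
  simp only [HermSpace.add_left, HermSpace.add_right, HermSpace.smul_left, hpp,
    hap, HermSpace.h_comm_zero _ hap, hta.2.1]
  match_scalars <;> grind

include hw P htv hmem in
/-- A subgroup meeting the kernel trivially and covering the two-subgroup. -/
theorem exists_sylow_lift : ∃ A : Subgroup G, A ⊓ π.ker = ⊥ ∧
    (twoGrp hF).subgroupOf (SFive hF) ≤ A.map π := by
  classical
  have h2 := two_zero hF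
  have hfix : ∀ {x : SFive hF} {f : Fin 5 → F}, IsPr hF w x f → fixKer π x = ⊥ := fun h =>
    fixKer_pr hw P htv hmem h
  choose xs hxs using fun i : Fin 5 => exists_isPr hw (h_ev_self hF i)
  have ho : ∀ i j : Fin 5, i ≠ j → (stdHerm hF 5).h (ev i : Fin 5 → F) (ev j) = 0 := fun i j h => by
    rw [h_ev_right]; simp [h.symm]
  have hxc : ∀ i j, Commute (xs i) (xs j) := fun i j => by
    rcases eq_or_ne i j with rfl | h
    · exact Commute.refl _
    · exact (hxs i).commute (hxs j) (ho i j h)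
  obtain ⟨X0, hX0, hX03⟩ := P.exists_lift_three ((hxs 0).pow_three hw)
  have hf0 : fixKer π (π X0) = ⊥ := hX0 ▸ hfix (hxs 0)
  choose X hX hXc using fun i => P.exists_lift_commute hX03 (y := xs i) (hX0 ▸ hxc 0 i)
  have hX00 : X 0 = X0 := P.lift_unique hf0 ((hX 0).trans hX0.symm) (hXc 0) (Commute.refl _)
  have hXX : ∀ i j, Commute (X i) (X j) := fun i j =>
    P.lift_commute hf0 (hXc i) (hXc j) (by rw [hX, hX]; exact hxc i j)
  have hX3 : ∀ i, X i ^ 3 = 1 := fun i =>
    P.lift_pow_three hf0 (hXc i) (by rw [hX]; exact (hxs i).pow_three hw)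
  have hfi : ∀ i, fixKer π (π (X i)) = ⊥ := fun i => (hX i).symm ▸ hfix (hxs i)
  -- the inverter over `pv`
  obtain ⟨dp, hdp, htp, hidp⟩ := exists_inv_lift hw P hmem (hxs 0) (hxs 1) (ho 0 1 (by decide))
    (z := X 0 * (X 1)⁻¹) (by rw [map_mul, map_inv, hX, hX])
    (by rw [(hXX 0 1).inv_right.mul_pow, inv_pow, hX3, hX3, inv_one, mul_one])
  -- the products over the lines through `pv`
  let IsGa : (Fin 5 → F) → G → Prop := fun a g => ∃ ta Xf dv : G,
    IsTv (π ta) a ∧ Commute ta (X 0) ∧ IsPr hF w (π Xf) (ev 0 + a) ∧ Commute Xf (X 1) ∧ dv ∈ D ∧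
    IsTv (π dv) (ev 0 + a + ev 1) ∧ dv * (Xf * (X 1)⁻¹) * dv⁻¹ = (Xf * (X 1)⁻¹)⁻¹ ∧ g = dp * ta * dv
  have hsum : ∀ a : Fin 5 → F, ev 0 + a + ev 1 = pv + a := fun a => add_right_comm _ _ _
  have hgen_ex : ∀ a ∈ (wsub : Submodule F (Fin 5 → F)), a ≠ 0 → (stdHerm hF 5).h a a = 0 →
      ∃ g, IsGa a g := by
    intro a ha ha0 haa
    obtain ⟨t, ht⟩ := exists_isTv h2 ha0 haa
    obtain ⟨ta, hta, htac⟩ := P.exists_lift_commute hX03 (y := t)
      (hX0 ▸ (hxs 0).commute_tv ht (by rw [h_ev_right, ha.1]))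
    have hf : (stdHerm hF 5).h (ev 0 + a) (ev 0 + a) = 1 := by
      have e0 : (stdHerm hF 5).h a (ev 0) = 0 := by rw [h_ev_right, ha.1]
      simp only [HermSpace.add_left, HermSpace.add_right, haa, h_ev_self, e0,
        HermSpace.h_comm_zero _ e0, add_zero]
    obtain ⟨xf, hxf⟩ := exists_isPr hw hf
    have ho1 : (stdHerm hF 5).h (ev 0 + a) (ev 1) = 0 := by
      rw [HermSpace.add_left, h_ev_right, h_ev_right, ha.2]; simp
    obtain ⟨Xf, hXf, hXfc⟩ := P.exists_lift_commute (hX3 1) (y := xf)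
      ((hX 1).symm ▸ (hxf.commute (hxs 1) ho1).symm)
    have hXf3 : Xf ^ 3 = 1 := P.lift_pow_three (hfi 1) hXfc (by rw [hXf]; exact hxf.pow_three hw)
    obtain ⟨dv, hdv, htdv, hidv⟩ := exists_inv_lift hw P hmem hxf (hxs 1) ho1 (z := Xf * (X 1)⁻¹)
      (by rw [map_mul, map_inv, hXf, hX]) (by rw [hXfc.inv_right.mul_pow, inv_pow, hXf3, hX3, inv_one, mul_one])
    exact ⟨_, ta, Xf, dv, hta ▸ ht, hX00 ▸ htac, hXf ▸ hxf, hXfc, hdv, htdv, hidv, rfl⟩
  -- conjugation of the inverters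
  have dp_conj : ∀ m : G, Commute m (X 0) → Commute m (X 1) → ∀ b : F,
      (π m).1.1 pv = b • pv → m * dp * m⁻¹ = dp := by
    intro m h0 h1 b hb
    refine inv_lift_unique hw P hmem (hxs 0) (hxs 1) (ho 0 1 (by decide))
      (z := X 0 * (X 1)⁻¹) (by rw [map_mul, map_inv, hX, hX]) (conj_mem P.cls hdp) hdp ?_ htp ?_ hidp
    · rw [map_mul, map_mul, map_inv, htp.conj_eq htp hb]; exact htp
    · have hc : Commute m (X 0 * (X 1)⁻¹) := h0.mul_right h1.inv_right
      calc m * dp * m⁻¹ * (X 0 * (X 1)⁻¹) * (m * dp * m⁻¹)⁻¹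
          = m * (dp * (m⁻¹ * (X 0 * (X 1)⁻¹) * m) * dp⁻¹) * m⁻¹ := by group
        _ = m * (X 0 * (X 1)⁻¹)⁻¹ * m⁻¹ := by
          rw [mul_assoc m⁻¹, ← hc.eq, inv_mul_cancel_left, hidp]
        _ = _ := by rw [hc.inv_right.eq, mul_inv_cancel_right]
  have hpj : ∀ j : Fin 5, j ≠ 0 → j ≠ 1 → (stdHerm hF 5).h (pv : Fin 5 → F) (ev j) = 0 := fun j h0 h1 => by
    rw [h_ev_right]; simp [h0, h1]
  have dp_comm : ∀ j : Fin 5, j ≠ 0 → j ≠ 1 → Commute dp (X j) := fun j h0 h1 =>
    (mul_inv_eq_iff_eq_mul.1 (dp_conj (X j) (hXX j 0) (hXX j 1) w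
      (by rw [hX]; exact (hxs j).apply_perp (hpj j h0 h1)))).symm
  have ga_comm : ∀ {a : Fin 5 → F} {g : G}, a ∈ wsub → IsGa a g → ∀ j : Fin 5, j ≠ 0 → j ≠ 1 →
      a j = 0 → Commute g (X j) := by
    rintro a g ha ⟨ta, Xf, dv, hta, htac, hXf, hXfc, hdv, htdv, hidv, rfl⟩ j h0 h1 hj
    have haj : (stdHerm hF 5).h a (ev j) = 0 := by rw [h_ev_right, hj]
    have hfj : (stdHerm hF 5).h (ev 0 + a) (ev j) = 0 := by
      rw [HermSpace.add_left, haj, ho 0 j (Ne.symm h0), add_zero]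
    have hXfj : Commute Xf (X j) := P.lift_commute (hfi 1) hXfc (hXX j 1)
      (by rw [hX]; exact hXf.commute (hxs j) hfj)
    have hta' : Commute ta (X j) := P.lift_commute hf0 (hX00 ▸ htac) (hXc j)
      (by rw [hX]; exact ((hxs j).commute_tv hta haj).symm)
    have hdv' : X j * dv * (X j)⁻¹ = dv := by
      have ho1 : (stdHerm hF 5).h (ev 0 + a) (ev 1) = 0 := by
        rw [HermSpace.add_left, h_ev_right, h_ev_right, ha.2]; simp
      refine inv_lift_unique hw P hmem hXf (hxs 1) ho1 (z := Xf * (X 1)⁻¹)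
        (by rw [map_mul, map_inv, hX]) (conj_mem P.cls hdv) hdv ?_ htdv ?_ hidv
      · rw [map_mul, map_mul, map_inv, htdv.conj_eq htdv (c := w) ?_]
        · exact htdv
        · rw [hX]; exact (hxs j).apply_perp (by
            rw [HermSpace.add_left, hfj, ho 1 j (Ne.symm h1), add_zero])
      · have hc : Commute (X j) (Xf * (X 1)⁻¹) := hXfj.symm.mul_right (hXX j 1).inv_right
        calc X j * dv * (X j)⁻¹ * (Xf * (X 1)⁻¹) * (X j * dv * (X j)⁻¹)⁻¹
            = X j * (dv * ((X j)⁻¹ * (Xf * (X 1)⁻¹) * X j) * dv⁻¹) * (X j)⁻¹ := by group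
          _ = X j * (Xf * (X 1)⁻¹)⁻¹ * (X j)⁻¹ := by
            rw [mul_assoc (X j)⁻¹, ← hc.eq, inv_mul_cancel_left, hidv]
          _ = _ := by rw [hc.inv_right.eq, mul_inv_cancel_right]
    exact ((dp_comm j h0 h1).mul_left hta').mul_left (mul_inv_eq_iff_eq_mul.1 hdv').symm
  have ga_image : ∀ {a : Fin 5 → F} {g : G}, a ∈ wsub → IsGa a g →
      ∃ c : RootCond (stdHerm hF 5) pv a 0, (π g).1 = root _ pv a 0 c := by
    rintro a g ha ⟨ta, Xf, dv, hta, -, -, -, -, htdv, -, rfl⟩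
    rw [hsum] at htdv
    exact ⟨_, by rw [map_mul, map_mul]; exact three_tv ha htp hta htdv⟩
  have hdp_image : (π dp).1 = tr pv (pv_iso hF) h2 := unit_ext fun x => by
    rw [htp.2.2, tr, root_apply, HermSpace.zero_right, smul_zero, add_zero, neg_zero, zero_add, one_mul]
  have hdp1 : π dp ≠ 1 := fun e => pv_ne (F := F) (by
    obtain ⟨y, hy⟩ := (stdHerm hF 5).exists_h_one (pv_ne (F := F))
    have := htp.2.2 y
    rw [e, hy, one_smul] at this
    exact left_eq_add.1 this)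
  set Gen : Set G := insert dp {g | ∃ a ∈ (wsub : Submodule F (Fin 5 → F)),
    (stdHerm hF 5).h a a = 0 ∧ IsGa a g} with hGen
  set Q0 := closure Gen with hQ0
  -- the block lifts
  let φ : G →* Unit' (stdHerm hF 5) := (SFive hF).subtype.comp π
  let L : Fin 5 → Subgroup G := fun i => (RP pv (pv_iso hF) (F ∙ ev i)).comap φ ⊓
    centralizer (X '' {j | j ≠ 0 ∧ j ≠ 1 ∧ j ≠ i})
  have memL : ∀ {i : Fin 5} {g : G}, g ∈ L i ↔ (π g).1 ∈ RP pv (pv_iso hF) (F ∙ ev i) ∧
      ∀ j, j ≠ 0 → j ≠ 1 → j ≠ i → Commute g (X j) := fun {i g} => by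
    simp [L, φ, mem_centralizer_iff, Commute, SemiconjBy, eq_comm]
    exact fun _ => ⟨fun h j a b c => h _ j a b c rfl, fun h _ x a b c e => e ▸ h x a b c⟩
  have hLc : ∀ {i k : Fin 5}, i ≠ k → ∀ {g h : G}, g ∈ L i → h ∈ L k → Commute g h := by
    intro i k hik g h hg hh
    obtain ⟨j, j0, j1, ji, jk⟩ := exists_third i k
    obtain ⟨⟨a, ha, l, ca, ea⟩, hgc⟩ := memL.1 hg
    obtain ⟨⟨b, hb, m, cb, eb⟩, hhc⟩ := memL.1 hh
    refine P.lift_commute (hfi j) (hgc j j0 j1 ji) (hhc j j0 j1 jk) (Subtype.ext ?_)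
    show (π g).1 * (π h).1 = (π h).1 * (π g).1
    obtain ⟨a0, rfl⟩ := Submodule.mem_span_singleton.1 ha
    obtain ⟨b0, rfl⟩ := Submodule.mem_span_singleton.1 hb
    have orth : (stdHerm hF 5).h (a0 • ev i : Fin 5 → F) (b0 • ev k) = 0 := by
      rw [HermSpace.smul_left, HermSpace.smul_right, ho i k hik, mul_zero, mul_zero]
    rw [ea, eb, root_mul, root_mul]
    exact root_congr _ _ rfl (add_comm _ _) (by rw [orth, HermSpace.h_comm_zero _ orth, add_comm])
  have hdpL : ∀ i : Fin 5, dp ∈ L i := fun i => memL.2 ⟨by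
    rw [hdp_image]; exact root_mem_RP (zero_mem _) _, fun j h0 h1 _ => dp_comm j h0 h1⟩
  have hgaL : ∀ g ∈ Gen, g ∈ L 2 ⊔ L 3 ⊔ L 4 := by
    intro g hg
    have hle : ∀ i : Fin 5, i ≠ 0 → i ≠ 1 → L i ≤ L 2 ⊔ L 3 ⊔ L 4 := by
      intro i h0 h1
      fin_cases i
      · exact absurd rfl h0
      · exact absurd rfl h1
      · exact le_sup_of_le_left le_sup_left
      · exact le_sup_of_le_left le_sup_right
      · exact le_sup_right
    rcases hg with rfl | ⟨a, ha, haa, hga⟩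
    · exact hle 2 (by decide) (by decide) (hdpL 2)
    obtain ⟨c, ec⟩ := ga_image ha hga
    -- a vanishing coordinate
    obtain ⟨i, k, j, i0, i1, k0, k1, j0, j1, hik, hji, hjk, hj, hak⟩ :
        ∃ i k j : Fin 5, i ≠ 0 ∧ i ≠ 1 ∧ k ≠ 0 ∧ k ≠ 1 ∧ j ≠ 0 ∧ j ≠ 1 ∧ i ≠ k ∧ j ≠ i ∧ j ≠ k ∧ a j = 0 ∧
          a = a i • ev i + a k • ev k := by
      have key : a 2 = 0 ∨ a 3 = 0 ∨ a 4 = 0 := by
        by_contra hcon
        push Not at hcon
        have e := haa
        rw [h_five, ha.1, ha.2] at e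
        have hn : ∀ x : F, x ≠ 0 → x * x ^ 2 = 1 := fun x hx => by
          have := norm_eq_one (H := stdHerm hF 5) (hfix_five hF) hx
          rwa [stdHerm_conj] at this
        rw [hn _ hcon.1, hn _ hcon.2.1, hn _ hcon.2.2] at e
        exact one_ne_zero (α := F) (by linear_combination e - h2)
      rcases key with h | h | h
      · exact ⟨3, 4, 2, by decide, by decide, by decide, by decide, by decide, by decide, by decide,
          by decide, by decide, h, funext fun m => by fin_cases m <;> simp [ha.1, ha.2, h]⟩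
      · exact ⟨2, 4, 3, by decide, by decide, by decide, by decide, by decide, by decide, by decide,
          by decide, by decide, h, funext fun m => by fin_cases m <;> simp [ha.1, ha.2, h]⟩
      · exact ⟨2, 3, 4, by decide, by decide, by decide, by decide, by decide, by decide, by decide,
          by decide, by decide, h, funext fun m => by fin_cases m <;> simp [ha.1, ha.2, h]⟩
    obtain ⟨l, hl⟩ := (stdHerm hF 5).exists_trace ((stdHerm hF 5).conj_diag (a i • ev i : Fin 5 → F))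
    have ci : RootCond (stdHerm hF 5) pv (a i • ev i) l := ⟨pv_iso hF,
      h_wsub_pv hF (Submodule.smul_mem _ _ ⟨by simp [i0.symm], by simp [i1.symm]⟩),
      by linear_combination hl + (stdHerm hF 5).h (a i • ev i) (a i • ev i) * h2⟩
    let ri : SFive hF := ⟨root _ pv _ l ci, detHom_root ci⟩
    have hrj : ∀ m : Fin 5, m ≠ 0 → m ≠ 1 → m ≠ i → Commute (xs m) ri := fun m m0 m1 mi =>
      root_commute_pr (hxs m) (by rw [HermSpace.smul_left, ho i m (Ne.symm mi), mul_zero]) (hpj m m0 m1)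
        ci hw rfl
    obtain ⟨li, hli, hlic⟩ := P.exists_lift_commute (hX3 j) (y := ri) ((hX j).symm ▸ hrj j j0 j1 hji)
    have hgj : Commute g (X j) := ga_comm ha hga j j0 j1 hj
    have hliL : li ∈ L i := memL.2 ⟨by
      rw [hli]; exact root_mem_RP (Submodule.smul_mem _ _ (Submodule.mem_span_singleton_self _)) ci,
      fun m m0 m1 mi => P.lift_commute (hfi j) hlic (hXX m j)
        (by rw [hli, hX]; exact (hrj m m0 m1 mi).symm)⟩
    have himg : (π (li⁻¹ * g)).1 ∈ RP pv (pv_iso hF) (F ∙ ev k) := by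
      rw [map_mul, map_inv, hli]
      show (root _ pv _ l ci)⁻¹ * (π g).1 ∈ _
      rw [ec, root_inv, root_mul]
      refine root_mem_RP (Submodule.mem_span_singleton.2 ⟨a k, ?_⟩) _
      exact eq_neg_add_of_add_eq hak.symm
    have hlkL : li⁻¹ * g ∈ L k := memL.2 ⟨himg, fun m m0 m1 mk => by
      refine P.lift_commute (hfi j) (hlic.inv_left.mul_left hgj) (hXX m j) ?_
      rw [hX]
      obtain ⟨b, hb, l', cb, eb⟩ := himg
      obtain ⟨b0, rfl⟩ := Submodule.mem_span_singleton.1 hb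
      exact (root_commute_pr (hxs m) (by rw [HermSpace.smul_left, ho k m (Ne.symm mk), mul_zero])
        (hpj m m0 m1) cb hw eb).symm⟩
    rw [show g = li * (li⁻¹ * g) by group]
    exact mul_mem (hle i i0 i1 hliL) (hle k k0 k1 hlkL)
  -- trivial intersection
  have hQker : Q0 ⊓ π.ker = ⊥ := by
    rw [eq_bot_iff]
    intro z hz
    rw [mem_bot]
    have hzk : π z = 1 := hz.2
    have hz' : z ∈ L 2 ⊔ L 3 ⊔ L 4 := (closure_le _).2 hgaL hz.1
    have hn : ∀ {i k : Fin 5}, i ≠ k → L k ≤ centralizer (L i : Set G) := fun {i k} hik g hg =>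
      mem_centralizer_iff.2 fun x hx => (hLc hik hx hg).eq
    have n23 : L 3 ≤ normalizer (L 2 : Set G) :=
      (hn (by decide)).trans (centralizer_le_normalizer _)
    have n234 : L 4 ≤ normalizer ((L 2 ⊔ L 3 : Subgroup G) : Set G) := by
      refine le_trans ?_ (centralizer_le_normalizer _)
      intro g hg
      refine mem_centralizer_iff.2 fun x hx => ?_
      have hle' : L 2 ⊔ L 3 ≤ centralizer {g} := sup_le
        (fun y hy => mem_centralizer_singleton_iff.2 (hLc (by decide) hy hg).eq)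
        (fun y hy => mem_centralizer_singleton_iff.2 (hLc (by decide) hy hg).eq)
      exact mem_centralizer_singleton_iff.1 (hle' hx)
    obtain ⟨y, hy, l4, h4, rfl⟩ : z ∈ ((L 2 ⊔ L 3 : Subgroup G) : Set G) * (L 4 : Set G) := by
      rw [← coe_mul_of_right_le_normalizer_left _ _ n234]; exact hz'
    obtain ⟨l2, h2', l3, h3, rfl⟩ : y ∈ (L 2 : Set G) * (L 3 : Set G) := by
      rw [← coe_mul_of_right_le_normalizer_left _ _ n23]; exact hy
    simp only [map_mul] at hzk
    obtain ⟨⟨a2, ha2, m2, c2, e2⟩, hc2⟩ := memL.1 h2'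
    obtain ⟨⟨a3, ha3, m3, c3, e3⟩, hc3⟩ := memL.1 h3
    obtain ⟨⟨a4, ha4, m4, c4, e4⟩, hc4⟩ := memL.1 h4
    obtain ⟨b2, rfl⟩ := Submodule.mem_span_singleton.1 ha2
    obtain ⟨b3, rfl⟩ := Submodule.mem_span_singleton.1 ha3
    obtain ⟨b4, rfl⟩ := Submodule.mem_span_singleton.1 ha4
    have hh : ∀ i : Fin 5, i ≠ 0 → i ≠ 1 → ∀ b : F, (stdHerm hF 5).h (ev 0) (b • ev i : Fin 5 → F) = 0 :=
      fun i i0 _ b => by rw [HermSpace.smul_right, ho 0 i i0.symm, mul_zero]
    have e0 := congrArg (fun t : SFive hF => t.1.1 (ev 0)) hzk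
    have hb : b2 = 0 ∧ b3 = 0 ∧ b4 = 0 := by
      have h' : ((root _ pv _ m2 c2 * root _ pv _ m3 c3 * root _ pv _ m4 c4 :
          Unit' (stdHerm hF 5))).1 (ev 0) = ev 0 := by
        rw [← e2, ← e3, ← e4]
        exact e0.trans rfl
      rw [root_mul, root_mul, root_apply, h_pv_right] at h'
      refine ⟨?_, ?_, ?_⟩
      · simpa using congrFun h' 2
      · simpa using congrFun h' 3
      · simpa using congrFun h' 4
    have cases' : ∀ {i : Fin 5} {l : G} {m : F} {c : RootCond (stdHerm hF 5) pv ((0 : F) • ev i) m},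
        l ∈ L i → (π l).1 = root _ pv _ m c → l = 1 ∨ l = dp := by
      intro i l m c hl e
      obtain ⟨j, j0, j1, ji, -⟩ := exists_third i i
      have hlc := (memL.1 hl).2 j j0 j1 ji
      rcases root_zero_eq hF c (zero_smul F _) with h | h
      · exact Or.inl (P.lift_unique (hfi j) (by rw [map_one]; exact Subtype.ext (e.trans h)) hlc
          (Commute.one_left _))
      · exact Or.inr (P.lift_unique (hfi j) (Subtype.ext (by rw [e, h, hdp_image])) hlc (dp_comm j j0 j1))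
    obtain ⟨rfl, rfl, rfl⟩ := hb
    have hdd : dp * dp = 1 := CfsgLib.ThreeTransp.mul_self_eq_one (P.cls.1.1 dp hdp)
    show l2 * l3 * l4 = 1
    simp only [← map_mul] at hzk
    rcases cases' h2' e2 with u2 | u2 <;> rcases cases' h3 e3 with u3 | u3 <;>
      rcases cases' h4 e4 with u4 | u4 <;>
      simp only [u2, u3, u4, mul_one, one_mul, hdd, map_one] at hzk ⊢ <;>
      exact absurd hzk hdp1
  -- the image of `Q0`
  have hQimg : ∀ q ∈ bigRP hF, ∃ g ∈ Q0, (π g).1 = q := by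
    let M : Subgroup (Unit' (stdHerm hF 5)) := Q0.map φ
    suffices hM : bigRP hF ≤ M from fun q hq => hM hq
    have htr : tr pv (pv_iso hF) h2 ∈ M := ⟨dp, subset_closure (Or.inl rfl), hdp_image⟩
    let Ok : (Fin 5 → F) → Prop := fun a => ∀ l (c : RootCond (stdHerm hF 5) pv a l), root _ pv a l c ∈ M
    have okone : ∀ {a : Fin 5 → F} {l : F} (c : RootCond (stdHerm hF 5) pv a l),
        root _ pv a l c ∈ M → Ok a := fun c hc l' c' => by
      rcases root_eq_tr_or h2 (hfix_five hF) c' c with h | h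
      · rwa [h]
      · rw [h]; exact mul_mem hc htr
    have okadd : ∀ {a b : Fin 5 → F}, a ∈ wsub → b ∈ wsub → Ok a → Ok b → Ok (a + b) := by
      intro a b ha hb oa ob
      obtain ⟨l, hl⟩ := (stdHerm hF 5).exists_trace ((stdHerm hF 5).conj_diag a)
      obtain ⟨m, hm⟩ := (stdHerm hF 5).exists_trace ((stdHerm hF 5).conj_diag b)
      have ca : RootCond (stdHerm hF 5) pv a l := ⟨pv_iso hF, h_wsub_pv hF ha,
        by linear_combination hl + (stdHerm hF 5).h a a * h2⟩
      have cb : RootCond (stdHerm hF 5) pv b m := ⟨pv_iso hF, h_wsub_pv hF hb,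
        by linear_combination hm + (stdHerm hF 5).h b b * h2⟩
      refine okone (ca.add cb) ?_
      rw [← root_mul ca cb]
      exact mul_mem (oa l ca) (ob m cb)
    have okiso : ∀ a ∈ (wsub : Submodule F (Fin 5 → F)), (stdHerm hF 5).h a a = 0 → Ok a := by
      intro a ha haa
      rcases eq_or_ne a 0 with rfl | ha0
      · have c0 : RootCond (stdHerm hF 5) pv 0 0 := rootCond_zero (zero_mem _) haa
        refine okone c0 ?_
        rw [show root _ pv 0 0 c0 = 1 from unit_ext fun x => rootFun_zero pv x]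
        exact one_mem _
      obtain ⟨g, hg⟩ := hgen_ex a ha ha0 haa
      obtain ⟨c, ec⟩ := ga_image ha hg
      exact okone c ⟨g, subset_closure (Or.inr ⟨a, ha, haa, hg⟩), ec⟩
    have okcoord : ∀ i k : Fin 5, i ≠ 0 → i ≠ 1 → k ≠ 0 → k ≠ 1 → i ≠ k → ∀ b : F, Ok (b • ev i) := by
      intro i k i0 i1 k0 k1 hik b
      have hmemw : ∀ x y : F, (x • ev i + y • ev k : Fin 5 → F) ∈ wsub := fun x y => add_mem
        (Submodule.smul_mem _ _ ⟨by simp [i0.symm], by simp [i1.symm]⟩)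
        (Submodule.smul_mem _ _ ⟨by simp [k0.symm], by simp [k1.symm]⟩)
      have hiso : ∀ x : F, x * x * x = 1 → ∀ y : F,
          (stdHerm hF 5).h ((x * y) • ev i + y • ev k : Fin 5 → F) ((x * y) • ev i + y • ev k) = 0 := by
        intro x hx y
        simp only [HermSpace.add_left, HermSpace.add_right, HermSpace.smul_left, HermSpace.smul_right,
          h_ev_self, ho i k hik, ho k i hik.symm, conj_five]
        linear_combination y * y * y * hx + y * y * y * h2
      have e : (b • ev i : Fin 5 → F) = ((w * b) • ev i + b • ev k) + ((w * w * b) • ev i + b • ev k) := by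
        match_scalars <;> grind
      rw [e]
      exact okadd (hmemw _ _) (hmemw _ _) (okiso _ (hmemw _ _) (hiso w (w_cube hw) b))
        (okiso _ (hmemw _ _) (hiso (w * w) (by linear_combination (w * w * w + 1) * (w - 1) * hw) b))
    rintro _ ⟨a, ha, l, c, rfl⟩
    have hd : a = a 2 • ev 2 + a 3 • ev 3 + a 4 • ev 4 :=
      funext fun m => by fin_cases m <;> simp [ha.1, ha.2]
    have hw2 : ∀ (i : Fin 5) (b : F), i ≠ 0 → i ≠ 1 → (b • ev i : Fin 5 → F) ∈ wsub := fun i b i0 i1 =>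
      Submodule.smul_mem _ _ ⟨by simp [i0.symm], by simp [i1.symm]⟩
    have hok : Ok a := hd ▸ okadd (add_mem (hw2 2 _ (by decide) (by decide)) (hw2 3 _ (by decide) (by decide)))
      (hw2 4 _ (by decide) (by decide))
      (okadd (hw2 2 _ (by decide) (by decide)) (hw2 3 _ (by decide) (by decide))
        (okcoord 2 3 (by decide) (by decide) (by decide) (by decide) (by decide) _)
        (okcoord 3 2 (by decide) (by decide) (by decide) (by decide) (by decide) _))
      (okcoord 4 3 (by decide) (by decide) (by decide) (by decide) (by decide) _)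
    exact hok l c
  -- the small root group
  set S0 := (smallRP hF).comap φ ⊓ centralizer ({X 0} : Set G) with hS0
  have memS : ∀ {s : G}, s ∈ S0 ↔ (π s).1 ∈ smallRP hF ∧ Commute s (X 0) := fun {s} => by
    simp [hS0, φ, mem_centralizer_singleton_iff, Commute, SemiconjBy]
  have small_x : ∀ s : SFive hF, s.1 ∈ smallRP hF → ∀ i : Fin 5, i = 0 ∨ i = 1 →
      s.1.1 (ev i) = ev i ∧ Commute s (xs i) := by
    intro s hs i hi
    obtain ⟨hp, h0, -⟩ := smallRP_fix hF hs
    have he : s.1.1 (ev i) = ev i := by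
      rcases hi with rfl | rfl
      · exact h0
      · rw [pv, map_add, h0, add_right_inj] at hp; exact hp
    refine ⟨he, mul_inv_eq_iff_eq_mul.1 ?_⟩
    have := (hxs i).conj s
    rw [he] at this
    exact this.unique (hxs i)
  have hSconj : ∀ s ∈ S0, ∀ g ∈ Gen, s * g * s⁻¹ ∈ Q0 := by
    intro s hs g hg
    obtain ⟨hsR, hs0⟩ := memS.1 hs
    obtain ⟨hp, -, hW⟩ := smallRP_fix hF hsR
    have hs1 : Commute s (X 1) := P.lift_commute hf0 (hX00 ▸ hs0) (hXc 1)
      (by rw [hX]; exact (small_x _ hsR 1 (Or.inr rfl)).2)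
    have he0 := (small_x _ hsR 0 (Or.inl rfl)).1
    have he1 := (small_x _ hsR 1 (Or.inr rfl)).1
    have hdps : s * dp * s⁻¹ = dp := dp_conj s hs0 hs1 1 (by rw [one_smul]; exact hp)
    rcases hg with rfl | ⟨a, ha, haa, ta, Xf, dv, hta, htac, hXf, hXfc, hdv, htdv, hidv, rfl⟩
    · rw [hdps]; exact subset_closure (Or.inl rfl)
    refine subset_closure (Or.inr ⟨(π s).1.1 a, hW a ha, by rw [unit_h]; exact haa,
      s * ta * s⁻¹, s * Xf * s⁻¹, s * dv * s⁻¹, ?_, ?_, ?_, ?_, conj_mem P.cls hdv, ?_, ?_, ?_⟩)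
    · rw [map_mul, map_mul, map_inv]; exact hta.conj (π s)
    · have := (Commute.conj_iff s).2 htac
      rwa [hs0.eq, mul_inv_cancel_right] at this
    · have := hXf.conj (π s)
      rw [map_add, he0] at this
      rwa [map_mul, map_mul, map_inv]
    · have := (Commute.conj_iff s).2 hXfc
      rwa [hs1.eq, mul_inv_cancel_right] at this
    · have := htdv.conj (π s)
      rw [map_add, map_add, he0, he1] at this
      rwa [map_mul, map_mul, map_inv]
    · have e : s * (X 1)⁻¹ * s⁻¹ = (X 1)⁻¹ := by rw [hs1.inv_right.eq, mul_inv_cancel_right]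
      have e' : s * Xf * s⁻¹ * (X 1)⁻¹ = s * (Xf * (X 1)⁻¹) * s⁻¹ := by
        conv_lhs => rw [← e]
        group
      rw [e']
      calc _ = s * (dv * (Xf * (X 1)⁻¹) * dv⁻¹) * s⁻¹ := by group
        _ = _ := by rw [hidv]; group
    · conv_rhs => rw [← hdps]
      group
  have hnorm : S0 ≤ normalizer (Q0 : Set G) := by
    have hc : ∀ s ∈ S0, ∀ x ∈ Q0, s * x * s⁻¹ ∈ Q0 := fun s hs x hx => by
      have : Q0 ≤ Q0.comap (MulAut.conj s).toMonoidHom := (closure_le _).2 fun y hy => hSconj s hs y hy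
      exact this hx
    exact fun s hs => mem_normalizer_iff.2 fun x => ⟨hc s hs x, fun h => by
      have := hc _ (inv_mem hs) _ h
      rwa [show s⁻¹ * (s * x * s⁻¹) * s⁻¹⁻¹ = x by group] at this⟩
  have hQbig : ∀ g ∈ Q0, (π g).1 ∈ bigRP hF := by
    have : Q0 ≤ (bigRP hF).comap φ := by
      refine (closure_le _).2 ?_
      rintro g (rfl | ⟨a, ha, -, hga⟩)
      · show (π g).1 ∈ bigRP hF
        rw [hdp_image]; exact root_mem_RP (zero_mem _) _
      · obtain ⟨c, ec⟩ := ga_image ha hga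
        show (π g).1 ∈ bigRP hF
        rw [ec]; exact root_mem_RP ha c
    exact fun g hg => this hg
  refine ⟨Q0 ⊔ S0, ?_, ?_⟩
  · rw [eq_bot_iff]
    intro z hz
    rw [mem_bot]
    obtain ⟨q, hq, s, hs, rfl⟩ : z ∈ (Q0 : Set G) * (S0 : Set G) := by
      rw [← coe_mul_of_right_le_normalizer_left _ _ hnorm]; exact hz.1
    have hzk : π q * π s = 1 := by rw [← map_mul]; exact hz.2
    have hs' : (π s⁻¹).1 ∈ smallRP hF := (memS.1 (inv_mem hs)).1
    have hq1 : (π q).1 = 1 := bigRP_fix_ev hF (hQbig q hq) (by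
      rw [show π q = π s⁻¹ by rw [map_inv]; exact eq_inv_of_mul_eq_one_left hzk]
      exact (smallRP_fix hF hs').2.1)
    have hq' : q = 1 := by
      have : q ∈ Q0 ⊓ π.ker := ⟨hq, Subtype.ext hq1⟩
      rwa [hQker, mem_bot] at this
    subst hq'
    rw [map_one, one_mul] at hzk
    show (1 : G) * s = 1
    rw [one_mul]
    exact P.lift_unique hf0 (by rw [hzk, map_one]) (hX00 ▸ (memS.1 hs).2) (Commute.one_left _)
  · intro k hk
    have h1 : bigRP hF ⊔ smallRP hF ≤ (Q0 ⊔ S0).map φ := by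
      refine sup_le (fun q hq => ?_) (fun r hr => ?_)
      · obtain ⟨g, hg, e⟩ := hQimg q hq
        exact ⟨g, mem_sup_left hg, e⟩
      · have hr' : r ∈ SFive hF := RP_le_SG hF _ hr
        obtain ⟨s, hs, hsc⟩ := P.exists_lift_commute hX03 (y := ⟨r, hr'⟩)
          (hX0 ▸ (small_x ⟨r, hr'⟩ hr 0 (Or.inl rfl)).2.symm)
        refine ⟨s, mem_sup_right (memS.2 ⟨by rw [hs]; exact hr, hX00 ▸ hsc⟩), ?_⟩
        show (π s).1 = r
        rw [hs]
    obtain ⟨g, hg, e⟩ := h1 hk
    exact ⟨g, hg, Subtype.ext e⟩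

end CfsgLib.ThreeTranspUnitary
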